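import Groth.Agent.CurveExtend.Extend
import Groth.Agent.PicCurve.Abel
import Groth.Agent.SGA7.RigidAutMain
import Groth.Agent.StackDM.Unram
import Groth.Agent.Limits.DVRCriteria
import Groth.Prelude.Def_AutSch

/-!
# The automorphism scheme of a family of curves of genus at least two

No vector fields on the fibres gives unramifiedness; the extension of isomorphisms over discrete
valuation rings gives properness.
-/

set_option autoImplicit false
set_option backward.isDefEq.respectTransparency false
set_option backward.isDefEq.respectTransparency.types false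
set_option linter.style.haveILetI false

universe u

open CategoryTheory CategoryTheory.Limits MonoidalCategory CartesianMonoidalCategory MonObj GrpObj
  AlgebraicGeometry
open scoped Groth.CurveBridge

noncomputable section

namespace Groth.CurveExtend.AutScheme

/-- The genus does not change under extensions of the base field. -/
theorem genus_of_isBC {k K : Type u} [Field k] [Field K] [Algebra k K] {X X' : Scheme.{u}}
    [X.Over (Spec (CommRingCat.of k))] [X'.Over (Spec (CommRingCat.of K))]
    [IsProper (X ↘ Spec (CommRingCat.of k))] (m : X' ⟶ X) (hsq : Groth.CohBase.IsBC (A := k) (A' := K) m) :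
    Curv2.genus K X' = Curv2.genus k X := by
  haveI : CompactSpace X := QuasiCompact.compactSpace_of_compactSpace (X ↘ Spec (CommRingCat.of k))
  haveI := Groth.HilbStab.BC.isSeparated_of_proper k X
  haveI := Groth.CurveBridge.isQuasicoherent_structure X
  obtain ⟨i⟩ := Groth.PicAux.pullback_structure_iso m
  unfold Curv2.genus
  rw [← Groth.HilbStab.BC.finrank_HH_baseChange hsq (Coh.structureModule X) 1]
  exact (Groth.EulerDeg.finrank_congr i 1).symm

/-- The genus of fibres does not change under base change. -/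
theorem genus_of_isPullback {C S C' S' : Scheme.{u}} {f : C ⟶ S} [IsProper f] {f' : C' ⟶ S'}
    {g' : C' ⟶ C} {g : S' ⟶ S} (hsq : IsPullback g' f' f g) (t : S') :
    (letI : (f'.fiber t).Over (Spec (S'.residueField t)) := ⟨f'.fiberToSpecResidueField t⟩;
      Curv2.genus (S'.residueField t) (f'.fiber t)) =
    (letI : (f.fiber (g t)).Over (Spec (S.residueField (g t))) := ⟨f.fiberToSpecResidueField (g t)⟩;
      Curv2.genus (S.residueField (g t)) (f.fiber (g t))) := by
  let K := S'.residueField t
  let k := S.residueField (g t)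
  letI : (f'.fiber t).Over (Spec (CommRingCat.of (S'.residueField t))) := ⟨f'.fiberToSpecResidueField t⟩
  letI : (f.fiber (g t)).Over (Spec (CommRingCat.of (S.residueField (g t)))) :=
    ⟨f.fiberToSpecResidueField (g t)⟩
  letI : Algebra k K := (g.residueFieldMap t).hom.toAlgebra
  let r := Spec.map (CommRingCat.ofHom (algebraMap k K))
  have hr : r ≫ S.fromSpecResidueField (g t) = S'.fromSpecResidueField t ≫ g :=
    Scheme.Hom.SpecMap_residueFieldMap_fromSpecResidueField _ _
  have hbig := (IsPullback.of_hasPullback f' (S'.fromSpecResidueField t)).paste_horiz hsq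
  let m : f'.fiber t ⟶ f.fiber (g t) :=
    pullback.lift (f'.fiberι t ≫ g') (f'.fiberToSpecResidueField t ≫ r)
      (by rw [Category.assoc (_ : f'.fiber t ⟶ _) r, hr]; exact hbig.w)
  have hsq' : Groth.CohBase.IsBC (A := k) (A' := K) m := by
    refine IsPullback.of_right (h₁₂ := f.fiberι (g t))
      (h₂₂ := S.fromSpecResidueField (g t)) (v₁₃ := f) ?_
      (pullback.lift_snd _ _ _) (IsPullback.of_hasPullback _ _)
    rw [hr, show m ≫ f.fiberι (g t) = _ from pullback.lift_fst _ _ _]
    exact hbig
  haveI : IsProper (f.fiber (g t) ↘ Spec (CommRingCat.of k)) := inferInstanceAs (IsProper (pullback.snd _ _))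
  exact genus_of_isBC m hsq'

/-- A curve of genus at least two has no vector fields. -/
theorem der_eq_zero {k : Type u} [Field k] (X : Scheme.{u}) [X.Over (Spec (CommRingCat.of k))]
    [IsProper (X ↘ Spec (CommRingCat.of k))] [Smooth (X ↘ Spec (CommRingCat.of k))]
    [GeometricallyConnected (X ↘ Spec (CommRingCat.of k))] (hdim : topologicalKrullDim X = 1)
    (hg : 2 ≤ Curv2.genus k X) (D : OmegaSh.Der (X ↘ Spec (CommRingCat.of k)) (Coh.structureModule X))
    (U : X.Opens) (s : Γ(X, U)) : D.app U s = 0 := by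
  haveI := Groth.CurveBridge.connectedSpace_of_geometrically X k
  haveI := Groth.CurveBridge.isIntegral_of_smooth k X
  haveI : IsLocallyNoetherian X := LocallyOfFiniteType.isLocallyNoetherian (X ↘ Spec (CommRingCat.of k))
  have h0 := Groth.CurveBridge.h0_of_geometrically k X hdim
  have hΩ := Groth.CurveBridge.isInvertible_omega_field k X hdim h0
  obtain ⟨-, -, hd⟩ := Groth.CurveBridge.omega_numerics_field k X hdim h0
  obtain ⟨α, hα⟩ := Groth.OmegaSheaf.exists_hom_of_isUniversal
    (Groth.OmegaSheaf.isUniversal_dOmega (X ↘ Spec (CommRingCat.of k))) D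
  have hα0 : α = 0 := by
    by_contra hne
    have h := Groth.EulerDeg.deg_le_and_isIso hΩ (Groth.EulerDeg.isInvertible_structureModule _) hne k hdim.le
    rw [Groth.EulerDeg.deg_structure, hd] at h
    have := h.1
    omega
  rw [← hα U s, hα0]
  rfl

section Points

variable {S : Scheme.{u}} {X : Over S} {G : Over S} [GrpObj G] (a : AlgGrp.Action G X)

theorem endOf_famOf_comp {T : Over S} (g g' : T ⟶ G) :
    AutSch.endOf (AutSch.famOf a g) ≫ AutSch.famOf a g' = AutSch.famOf a (g' * g) := by
  simp only [AutSch.famOf, ← Category.assoc, comp_lift, AutSch.endOf_snd, AutSch.endOf_fst]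
  rw [MonObj.comp_mul, Hom.mul_def,
    show lift (lift (snd X T ≫ g') (snd X T ≫ g) ≫ μ[G]) (fst X T) =
      lift (lift (snd X T ≫ g') (snd X T ≫ g)) (fst X T) ≫ (μ[G] ▷ X) by simp,
    Category.assoc _ _ a.act, a.mul_act]
  simp

theorem famOf_one {T : Over S} : AutSch.famOf a (1 : T ⟶ G) = fst X T := by
  rw [Hom.one_def, AutSch.famOf, ← Category.assoc, comp_toUnit,
    show lift (toUnit (X ⊗ T) ≫ η[G]) (fst X T) = lift (toUnit (X ⊗ T)) (fst X T) ≫ (η[G] ▷ X) by simp,
    Category.assoc, a.one_act, lift_leftUnitor_hom]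

theorem isAutFamily_famOf {T : Over S} (g : T ⟶ G) : AutSch.IsAutFamily (AutSch.famOf a g) := by
  refine ⟨AutSch.endOf (AutSch.famOf a g⁻¹), ?_, ?_⟩
  · apply CartesianMonoidalCategory.hom_ext
    · rw [Category.assoc, AutSch.endOf_fst, endOf_famOf_comp, inv_mul_cancel, famOf_one, Category.id_comp]
    · simp
  · apply CartesianMonoidalCategory.hom_ext
    · rw [Category.assoc, AutSch.endOf_fst, endOf_famOf_comp, mul_inv_cancel, famOf_one, Category.id_comp]
    · simp

variable {a}

theorem point_ext (hG : AutSch.Represents X G a) {T : Over S} {g g' : T ⟶ G}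
    (h : AutSch.famOf a g = AutSch.famOf a g') : g = g' := by
  obtain ⟨g₀, -, huniq⟩ := (AutSch.represents_iff G a).1 hG T _ (isAutFamily_famOf a g)
  exact (huniq g rfl).trans (huniq g' h.symm).symm

end Points

/-- The pullback of a family of curves to a field. -/
theorem field_point {S : Scheme.{u}} {X : Scheme.{u}} (f : X ⟶ S) [IsProper f]
    (hdim : ∀ s : S, topologicalKrullDim ↥(f.fiber s) = 1) (g : ℕ)
    (hgen : ∀ s : S, letI : (f.fiber s).Over (Spec (S.residueField s)) := ⟨f.fiberToSpecResidueField s⟩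
      Curv2.genus (S.residueField s) (f.fiber s) = g)
    (K : Type u) [Field K] (y : Spec (CommRingCat.of K) ⟶ S) :
    topologicalKrullDim ↥(pullback f y) = 1 ∧
      (letI : (pullback f y).Over (Spec (CommRingCat.of K)) := ⟨pullback.snd f y⟩;
        Curv2.genus K (pullback f y) = g) := by
  obtain ⟨⟨s, φ⟩, rfl⟩ := (Scheme.SpecToEquivOfField K S).symm.surjective y
  let y : Spec (CommRingCat.of K) ⟶ S := Spec.map φ ≫ S.fromSpecResidueField s
  change topologicalKrullDim ↥(pullback f y) = 1 ∧ _
  let k := S.residueField s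
  letI : Algebra k K := φ.hom.toAlgebra
  letI : (f.fiber s).Over (Spec (CommRingCat.of (S.residueField s))) := ⟨f.fiberToSpecResidueField s⟩
  letI : (pullback f y).Over (Spec (CommRingCat.of K)) := ⟨pullback.snd f y⟩
  haveI : IsProper (f.fiber s ↘ Spec (CommRingCat.of k)) := inferInstanceAs (IsProper (pullback.snd _ _))
  let r := Spec.map (CommRingCat.ofHom (algebraMap k K))
  let m : pullback f y ⟶ f.fiber s :=
    pullback.lift (pullback.fst f y) (pullback.snd f y ≫ r) (by rw [Category.assoc]; exact pullback.condition)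
  have hsq : Groth.CohBase.IsBC (A := k) (A' := K) m := by
    refine IsPullback.of_right (h₁₂ := f.fiberι s) (h₂₂ := S.fromSpecResidueField s) (v₁₃ := f) ?_
      (pullback.lift_snd _ _ _) (IsPullback.of_hasPullback _ _)
    rw [show m ≫ f.fiberι s = _ from pullback.lift_fst _ _ _]
    exact IsPullback.of_hasPullback f y
  refine ⟨?_, (genus_of_isBC m hsq).trans (hgen s)⟩
  haveI : LocallyOfFiniteType (f.fiberToSpecResidueField s) :=
    inferInstanceAs (LocallyOfFiniteType (pullback.snd _ _))
  refine Eq.trans ?_ ((@Groth.FBaseGeom.dim_bc k _ _ (f.fiberToSpecResidueField s) K _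
    φ.hom.toAlgebra _).trans (hdim s))
  exact hsq.isoPullback.hom.homeomorph.isHomeomorph.topologicalKrullDim_eq

open ArtFun in
/-- An automorphism over dual numbers of a family of curves of genus at least two, trivial on the
closed fibre, is trivial. -/
theorem eq_id_of_dual {S : Scheme.{u}} (X : Over S) [IsProper X.hom] [Smooth X.hom]
    [GeometricallyConnected X.hom] (hdim : ∀ s : S, topologicalKrullDim ↥(X.hom.fiber s) = 1)
    (g : ℕ) (hg : 2 ≤ g)
    (hgen : ∀ s : S, letI : (X.hom.fiber s).Over (Spec (S.residueField s)) := ⟨X.hom.fiberToSpecResidueField s⟩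
      Curv2.genus (S.residueField s) (X.hom.fiber s) = g)
    (K : Type u) [Field K] (y : Spec (CommRingCat.of (DualNumber K)) ⟶ S)
    (E : pullback X.hom y ⟶ pullback X.hom y) [IsIso E]
    (hE : E ≫ pullback.snd X.hom y = pullback.snd X.hom y)
    (i : pullback X.hom (Groth.StackDM.dualPt K ≫ y) ⟶ pullback X.hom y)
    (hi1 : i ≫ pullback.fst X.hom y = pullback.fst X.hom _)
    (hi2 : i ≫ pullback.snd X.hom y = pullback.snd X.hom _ ≫ Groth.StackDM.dualPt K)
    (hiE : i ≫ E = i) : E = 𝟙 _ := by
  let y₀ := Groth.StackDM.dualPt K ≫ y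
  let X₀ := pullback X.hom y₀
  let sX₀ : X₀ ⟶ Spec (CommRingCat.of K) := pullback.snd X.hom y₀
  letI : X₀.Over (Spec (CommRingCat.of K)) := ⟨sX₀⟩
  haveI : IsProper (X₀ ↘ Spec (CommRingCat.of K)) := inferInstanceAs (IsProper (pullback.snd _ _))
  haveI : Smooth (X₀ ↘ Spec (CommRingCat.of K)) := inferInstanceAs (Smooth (pullback.snd _ _))
  haveI : GeometricallyConnected (X₀ ↘ Spec (CommRingCat.of K)) :=
    inferInstanceAs (GeometricallyConnected (pullback.snd _ _))
  obtain ⟨hd, hgen₀⟩ := field_point X.hom hdim g hgen K y₀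
  have hder := der_eq_zero X₀ hd (hg.trans hgen₀.ge)
  haveI : Flat (pullback.snd X.hom y) := MorphismProperty.pullback_snd _ _ inferInstance
  let ξ : DefSch X₀ sX₀ (ArtFun.Art.dual K K) :=
    { total := pullback X.hom y
      f := pullback.snd X.hom y
      flat := inferInstance
      i := i
      isPullback := by
        refine IsPullback.of_right (h₁₂ := pullback.fst X.hom y) (h₂₂ := y) (v₁₃ := X.hom) ?_ hi2
          (IsPullback.of_hasPullback _ _)
        rw [hi1]
        exact IsPullback.of_hasPullback _ _ }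
  exact Groth.SGA7Def.eq_id_of_ders_eq_zero hder _ ξ ⟨asIso E, hE, hiE⟩

variable {S : Scheme.{u}} (X : Over S) [IsProper X.hom] [Smooth X.hom] [GeometricallyConnected X.hom]
  (hdim : ∀ s : S, topologicalKrullDim ↥(X.hom.fiber s) = 1) (g : ℕ) (hg : 2 ≤ g)
  (hgen : ∀ s : S, letI : (X.hom.fiber s).Over (Spec (S.residueField s)) := ⟨X.hom.fiberToSpecResidueField s⟩
    Curv2.genus (S.residueField s) (X.hom.fiber s) = g)
  (G : Over S) [GrpObj G] [LocallyOfFiniteType G.hom] {a : AlgGrp.Action G X} (hG : AutSch.Represents X G a)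

include hdim hg hgen hG in
theorem formallyUnramified : FormallyUnramified G.hom := by
  refine Groth.StackDM.formallyUnramified_of_separates G.hom fun K _ g₁ g₂ h0 hy _ => ?_
  let T : Over S := Over.mk (g₁ ≫ G.hom)
  let T₀ : Over S := Over.mk (Groth.StackDM.dualPt K ≫ g₁ ≫ G.hom)
  let v : T₀ ⟶ T := Over.homMk (Groth.StackDM.dualPt K) rfl
  let p₁ : T ⟶ G := Over.homMk g₁ rfl
  let p₂ : T ⟶ G := Over.homMk g₂ hy.symm
  suffices h : p₁⁻¹ * p₂ = 1 from congrArg CommaMorphism.left (show p₁ = p₂ from inv_mul_eq_one.1 h)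
  have hv : v ≫ (p₁⁻¹ * p₂) = 1 := by
    rw [MonObj.comp_mul, GrpObj.comp_inv, show v ≫ p₂ = v ≫ p₁ from Over.OverMorphism.ext h0.symm,
      inv_mul_cancel]
  set w := p₁⁻¹ * p₂
  apply point_ext hG
  rw [famOf_one]
  haveI : IsIso (AutSch.endOf (AutSch.famOf a w)) := isAutFamily_famOf a w
  haveI : IsIso (AutSch.endOf (AutSch.famOf a w)).left := inferInstance
  have hi : (X ◁ v) ≫ AutSch.endOf (AutSch.famOf a w) = X ◁ v := by
    have h1 : AutSch.famOf a (v ≫ w) = fst X T₀ := by rw [hv, famOf_one]
    rw [AutSch.famOf_comp, AutSch.pullFam] at h1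
    apply CartesianMonoidalCategory.hom_ext
    · rw [Category.assoc, AutSch.endOf_fst, h1, whiskerLeft_fst]
    · rw [Category.assoc, AutSch.endOf_snd]
  have h2 := eq_id_of_dual X hdim g hg hgen K (g₁ ≫ G.hom) (AutSch.endOf (AutSch.famOf a w)).left
    (congrArg CommaMorphism.left (AutSch.endOf_snd (AutSch.famOf a w)))
    (X ◁ v).left (Over.whiskerLeft_left_fst v) (Over.whiskerLeft_left_snd v)
    (congrArg CommaMorphism.left hi)
  have h3 : AutSch.endOf (AutSch.famOf a w) = 𝟙 _ := Over.OverMorphism.ext h2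
  have h4 := AutSch.endOf_fst (AutSch.famOf a w)
  rwa [h3, Category.id_comp, eq_comm] at h4

include hdim hg hgen hG in
theorem universallyClosed [IsLocallyNoetherian S] [QuasiCompact G.hom] : UniversallyClosed G.hom := by
  refine Groth.Limits.universallyClosed_of_dvr G.hom fun A _ _ _ x y hxy => ?_
  let ε := Groth.Limits.genericPointMap A
  let T : Over S := Over.mk y
  let T₀ : Over S := Over.mk (ε ≫ y)
  let v : T₀ ⟶ T := Over.homMk ε rfl
  let p : T₀ ⟶ G := Over.homMk x hxy
  obtain ⟨π, hπ⟩ := IsDiscreteValuationRing.exists_irreducible A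
  haveI := Groth.CurveExtend.isLocalization_away_uniformizer hπ (FractionRing A)
  haveI : IsOpenImmersion ε := IsOpenImmersion.of_isLocalization π
  have hr := Groth.CurveExtend.range_generic (R := A) (K := FractionRing A)
  let fA := pullback.snd X.hom y
  haveI : IsProper fA := MorphismProperty.pullback_snd _ _ inferInstance
  haveI : Smooth fA := MorphismProperty.pullback_snd _ _ inferInstance
  haveI : GeometricallyConnected fA := MorphismProperty.pullback_snd _ _ inferInstance
  have hA := IsPullback.of_hasPullback X.hom y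
  have hd : ∀ t, topologicalKrullDim ↥(fA.fiber t) = 1 := fun t => by
    rw [Groth.PicCurve.dim_fiber_of_isPullback hA t]
    exact hdim _
  have hgA : 1 ≤ Curv2.genus (Groth.CurveExtend.kf A) (Groth.CurveExtend.Fib fA) :=
    le_of_le_of_eq (by omega : 1 ≤ g) ((genus_of_isPullback hA _).trans (hgen _)).symm
  let m : (X ⊗ T₀).left ⟶ (X ⊗ T).left := (X ◁ v).left
  have hm1 : m ≫ pullback.fst X.hom y = pullback.fst X.hom (ε ≫ y) := Over.whiskerLeft_left_fst v
  have hm2 : m ≫ fA = pullback.snd X.hom (ε ≫ y) ≫ ε := Over.whiskerLeft_left_snd v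
  have hsq : IsPullback m (pullback.snd X.hom (ε ≫ y)) fA ε := by
    refine IsPullback.of_right ?_ hm2 hA
    rw [hm1]
    exact IsPullback.of_hasPullback _ _
  haveI : IsOpenImmersion m := by
    rw [← hsq.isoPullback_hom_fst]
    infer_instance
  have hrange : Set.range m = fA ⁻¹' {(⟨⊥, Ideal.isPrime_bot⟩ : PrimeSpectrum A)} := by
    rw [← hsq.isoPullback_hom_fst, Scheme.Hom.comp_base, TopCat.coe_comp, Set.range_comp,
      hsq.isoPullback.hom.surjective.range_eq, Set.image_univ, Scheme.Pullback.range_fst, hr]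
    rfl
  haveI : IsIso (AutSch.endOf (AutSch.famOf a p)) := isAutFamily_famOf a p
  let Ψ := (AutSch.endOf (AutSch.famOf a p)).left
  haveI : IsIso Ψ := inferInstanceAs (IsIso (AutSch.endOf (AutSch.famOf a p)).left)
  have hΨ : Ψ ≫ pullback.snd X.hom (ε ≫ y) = pullback.snd X.hom (ε ≫ y) :=
    congrArg CommaMorphism.left (AutSch.endOf_snd (AutSch.famOf a p))
  obtain ⟨e, he1, he2, -⟩ := Groth.CurveExtend.exists_iso fA fA m (Ψ ≫ m)
    (by rw [Category.assoc, hm2, reassoc_of% hΨ]) hrange
    (by rw [Scheme.Hom.comp_base, TopCat.coe_comp, Set.range_comp, Ψ.surjective.range_eq, Set.image_univ]; exact hrange)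
    (hd _) (hd _) hgA hgA
  let E : X ⊗ T ⟶ X ⊗ T := Over.homMk e.hom (by
    change e.hom ≫ pullback.fst X.hom y ≫ X.hom = pullback.fst X.hom y ≫ X.hom
    rw [pullback.condition, ← Category.assoc, he1])
  haveI : IsIso E := by
    haveI : IsIso ((Over.forget _).map E) := inferInstanceAs (IsIso e.hom)
    exact isIso_of_reflects_iso E (Over.forget _)
  have hE : E ≫ snd X T = snd X T := Over.OverMorphism.ext he1
  have hφ : AutSch.IsAutFamily (E ≫ fst X T) := by
    rw [AutSch.IsAutFamily, show AutSch.endOf (E ≫ fst X T) = E from by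
      apply CartesianMonoidalCategory.hom_ext <;> simp [AutSch.endOf, hE]]
    infer_instance
  obtain ⟨q, hq, -⟩ := (AutSch.represents_iff G a).1 hG T _ hφ
  refine ⟨q.left, Over.w q, ?_⟩
  refine congrArg CommaMorphism.left (show v ≫ q = p from point_ext hG ?_)
  rw [AutSch.famOf_comp, hq, AutSch.pullFam, ← Category.assoc,
    show X ◁ v ≫ E = AutSch.endOf (AutSch.famOf a p) ≫ X ◁ v from Over.OverMorphism.ext he2,
    Category.assoc, whiskerLeft_fst, AutSch.endOf_fst]

end Groth.CurveExtend.AutScheme
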