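import Groth.Agent.CurveExtend.Residue
import Groth.Agent.CurveBridge.BaseChange
import Groth.Agent.CurveBridge.Main
import Groth.Agent.Curves1.CurveMor.Smooth
import Groth.Agent.FunFld1.Rational
import Groth.Agent.NeronArea.WeilExtensionBase
import Groth.Agent.Ega43DVR.GenericConnected
import Groth.Agent.S9501
import Groth.Agent.Ega4Algebra1.RegularLocal
import Groth.Agent.Ega4Algebra1.RegularNormal

/-!
# Smooth curves over discrete valuation rings

Special points, uniformizers, and the fact that a divisorial valuation of positive genus is not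
centred at a closed point.
-/

set_option autoImplicit false
set_option backward.isDefEq.respectTransparency.types false

universe u

open CategoryTheory CategoryTheory.Limits AlgebraicGeometry IsLocalRing
open scoped Groth.CurveBridge

noncomputable section

namespace Groth.CurveExtend

variable {R : Type u} [CommRing R] [IsDomain R] [IsDiscreteValuationRing R] {X : Scheme.{u}}
  (f : X ⟶ Spec (CommRingCat.of R))

/-- The special point. -/
abbrev cpt (R : Type u) [CommRing R] [IsDomain R] [IsDiscreteValuationRing R] :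
    ↥(Spec (CommRingCat.of R)) := closedPoint R

/-- The residue field of the base. -/
abbrev kf (R : Type u) [CommRing R] [IsDomain R] [IsDiscreteValuationRing R] : Type u :=
  (Spec (CommRingCat.of R)).residueField (cpt R)

/-- The special fibre. -/
abbrev Fib : Scheme.{u} := f.fiber (cpt R)

instance overFib : (Fib f).Over (Spec (CommRingCat.of (kf R))) := ⟨f.fiberToSpecResidueField (cpt R)⟩

theorem isClosed_cpt : IsClosed ({cpt R} : Set ↥(Spec (CommRingCat.of R))) :=
  (PrimeSpectrum.isClosed_singleton_iff_isMaximal _).2 (maximalIdeal.isMaximal R)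

theorem eq_cpt_or_bot (s : ↥(Spec (CommRingCat.of R))) :
    s = cpt R ∨ s = (⟨⊥, Ideal.isPrime_bot⟩ : PrimeSpectrum R) := by
  by_cases h : s.asIdeal = ⊥
  · exact Or.inr (PrimeSpectrum.ext h)
  · exact Or.inl (PrimeSpectrum.ext (IsLocalRing.eq_maximalIdeal (s.isPrime.isMaximal h)))

/-- Constants in the stalks. -/
def toStalk (x : X) : R →+* X.presheaf.stalk x :=
  (X.presheaf.germ ⊤ x trivial).hom.comp (f.appTop.hom.comp (Scheme.ΓSpecIso (CommRingCat.of R)).inv.hom)

theorem toStalk_stalkMap (x : X) (r : R) :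
    toStalk f x r = f.stalkMap x ((Spec (CommRingCat.of R)).presheaf.germ ⊤ (f x) trivial
      ((Scheme.ΓSpecIso (CommRingCat.of R)).inv r)) := by
  rw [Scheme.Hom.germ_stalkMap_apply]
  rfl

theorem stalkMap_toStalk {Z : Scheme.{u}} (e : Z ⟶ X) (g : Z ⟶ Spec (CommRingCat.of R)) (h : e ≫ f = g)
    (z : Z) (r : R) : e.stalkMap z (toStalk f (e z) r) = toStalk g z r := by
  subst h
  simp only [toStalk, RingHom.comp_apply]
  rw [Scheme.Hom.germ_stalkMap_apply, Scheme.Hom.comp_appTop]
  rfl

/-- The reduction of constants. -/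
def red : R →+* kf R :=
  (Scheme.ΓSpecIso ((Spec (CommRingCat.of R)).residueField (cpt R))).hom.hom.comp
    (((Spec (CommRingCat.of R)).fromSpecResidueField (cpt R)).appTop.hom.comp
      (Scheme.ΓSpecIso (CommRingCat.of R)).inv.hom)

theorem red_surjective : Function.Surjective (red (R := R)) := by
  haveI : IsClosedImmersion ((Spec (CommRingCat.of R)).fromSpecResidueField (cpt R)) :=
    isClosed_singleton_iff_isClosedImmersion.mp isClosed_cpt
  exact ((Scheme.ΓSpecIso _).commRingCatIsoToRingEquiv.surjective.comp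
    ((IsClosedImmersion.isAffine_surjective_of_isAffine
      ((Spec (CommRingCat.of R)).fromSpecResidueField (cpt R))).2)).comp
    (Scheme.ΓSpecIso (CommRingCat.of R)).commRingCatIsoToRingEquiv.symm.surjective

theorem fiber_toStalk (z : Fib f) (r : R) :
    (f.fiberι (cpt R)).stalkMap z (toStalk f (f.fiberι (cpt R) z) r) =
      Curv2.stalkMap (kf R) (Fib f) z (red r) := by
  rw [stalkMap_toStalk f (f.fiberι (cpt R))
    (f.fiberToSpecResidueField (cpt R) ≫ (Spec (CommRingCat.of R)).fromSpecResidueField (cpt R))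
    (pullback.condition) z r]
  simp only [toStalk, red, Curv2.stalkMap, Coh.toGlobal, RingHom.comp_apply, Scheme.Hom.comp_appTop,
    CommRingCat.comp_apply]
  congr 2
  exact (ConcreteCategory.congr_hom
    (Scheme.ΓSpecIso ((Spec (CommRingCat.of R)).residueField (cpt R))).hom_inv_id _).symm

theorem ker_fiber_stalkMap {π : R} (hπ : Irreducible π) (z : Fib f) :
    RingHom.ker ((f.fiberι (cpt R)).stalkMap z).hom = Ideal.span {toStalk f (f.fiberι (cpt R) z) π} := by
  rw [(Groth.Agent.S9501.result f (cpt R) z).2]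
  have hfx : f (f.fiberι (cpt R) z) = cpt R := by
    have h : f.fiberι (cpt R) z ∈ f ⁻¹' {cpt R} := by rw [← Scheme.Hom.range_fiberι]; exact ⟨z, rfl⟩
    exact h
  rw [Groth.Ega43DVR.maximalIdeal_stalk_eq R π hπ.maximalIdeal_eq _ hfx, Ideal.map_span,
    Set.image_singleton, toStalk_stalkMap]

variable [IsProper f] [Smooth f] [GeometricallyConnected f]

include f in
theorem isLocallyNoetherian : IsLocallyNoetherian X := LocallyOfFiniteType.isLocallyNoetherian f

include f in
theorem regular (x : X) : IsRegularLocalRing (X.presheaf.stalk x) :=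
  Groth.NeronArea.Weil.isRegularLocalRing_of_smooth_dedekind f x

instance : IsProper (Fib f ↘ Spec (CommRingCat.of (kf R))) :=
  inferInstanceAs (IsProper (pullback.snd _ _))

instance : Smooth (Fib f ↘ Spec (CommRingCat.of (kf R))) :=
  inferInstanceAs (Smooth (pullback.snd _ _))

instance : GeometricallyConnected (Fib f ↘ Spec (CommRingCat.of (kf R))) :=
  inferInstanceAs (GeometricallyConnected (f.fiberToSpecResidueField _))

theorem isIntegral_fiber (s : ↥(Spec (CommRingCat.of R))) : IsIntegral (f.fiber s) := by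
  letI : (f.fiber s).Over (Spec ((Spec (CommRingCat.of R)).residueField s)) := ⟨f.fiberToSpecResidueField s⟩
  haveI : IsProper (f.fiber s ↘ Spec (CommRingCat.of ((Spec (CommRingCat.of R)).residueField s))) :=
    inferInstanceAs (IsProper (pullback.snd _ _))
  haveI : Smooth (f.fiber s ↘ Spec (CommRingCat.of ((Spec (CommRingCat.of R)).residueField s))) :=
    inferInstanceAs (Smooth (pullback.snd _ _))
  haveI : GeometricallyConnected (f.fiber s ↘ Spec (CommRingCat.of ((Spec (CommRingCat.of R)).residueField s))) :=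
    inferInstanceAs (GeometricallyConnected (f.fiberToSpecResidueField s))
  haveI := Groth.CurveBridge.connectedSpace_of_geometrically (f.fiber s) ((Spec (CommRingCat.of R)).residueField s)
  exact Groth.CurveBridge.isIntegral_of_smooth ((Spec (CommRingCat.of R)).residueField s) (f.fiber s)

instance : IsIntegral (Fib f) := isIntegral_fiber f (cpt R)

/-- The generic point of the special fibre. -/
def xi : X := f.fiberι (cpt R) (genericPoint (Fib f))

theorem f_xi : f (xi f) = cpt R := by
  have h : xi f ∈ f ⁻¹' {cpt R} := by rw [← Scheme.Hom.range_fiberι]; exact ⟨_, rfl⟩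
  exact h

theorem isClosed_fib : IsClosed (f ⁻¹' {cpt R}) := isClosed_cpt.preimage f.continuous

include f in
theorem isIntegral : IsIntegral X := by
  classical
  let b : ↥(Spec (CommRingCat.of R)) := (⟨⊥, Ideal.isPrime_bot⟩ : PrimeSpectrum R)
  haveI := isIntegral_fiber f b
  set η := f.fiberι b (genericPoint (f.fiber b))
  have hη : ∀ x : X, η ⤳ x := fun x => by
    obtain ⟨x', hx', hxb⟩ := Flat.generalizingMap f
      (show b ⤳ f x from (PrimeSpectrum.le_iff_specializes _ _).1 bot_le)
    obtain ⟨z, rfl⟩ : x' ∈ Set.range (f.fiberι b) := by rw [Scheme.Hom.range_fiberι]; exact hxb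
    exact ((genericPoint_specializes z).map (f.fiberι b).continuous).trans hx'
  haveI : IrreducibleSpace X := by
    rw [irreducibleSpace_def]
    have : (Set.univ : Set X) = closure {η} := (Set.eq_univ_of_forall fun v => (hη v).mem_closure).symm
    show IsIrreducible (Set.univ : Set X)
    rw [this]
    exact isIrreducible_singleton.closure
  haveI : ∀ x, _root_.IsReduced (X.presheaf.stalk x) := fun x => by
    haveI := regular f x
    haveI := Groth.Ega4Algebra1.isDomain_of_isRegularLocalRing (X.presheaf.stalk x)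
    infer_instance
  haveI : IsReduced X := isReduced_of_isReduced_stalk _
  exact isIntegral_of_irreducibleSpace_of_isReduced _

include f in
theorem normal (x : X) : IsIntegrallyClosed (X.presheaf.stalk x) := by
  haveI := regular f x
  exact Groth.Ega4Algebra1.isIntegrallyClosed_of_isRegularLocalRing _

/-- The residue map at the generic special point. -/
def resXi : X.presheaf.stalk (xi f) →+* (Fib f).functionField :=
  ((f.fiberι (cpt R)).stalkMap (genericPoint (Fib f))).hom

theorem resXi_surjective : Function.Surjective (resXi f) :=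
  (Groth.Agent.S9501.result f (cpt R) (genericPoint (Fib f))).1

theorem resXi_eq_zero_iff (a : X.presheaf.stalk (xi f)) : resXi f a = 0 ↔ ¬ IsUnit a := by
  refine ⟨fun h hu => ?_, fun h => ?_⟩
  · exact (hu.map (resXi f)).ne_zero h
  · by_contra h0
    have hl : IsLocalHom ((f.fiberι (cpt R)).stalkMap (genericPoint (Fib f))).hom :=
      (f.fiberι (cpt R)).toLRSHom.prop _
    exact h (hl.map_nonunit a (isUnit_iff_ne_zero.2 h0))

theorem maximalIdeal_xi {π : R} (hπ : Irreducible π) :
    maximalIdeal (X.presheaf.stalk (xi f)) = Ideal.span {toStalk f (xi f) π} := by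
  refine Eq.trans ?_ (ker_fiber_stalkMap f hπ (genericPoint (Fib f)))
  ext a
  exact ((IsLocalRing.mem_maximalIdeal a).trans (resXi_eq_zero_iff f a).symm)

theorem toStalk_injective (x : X) : Function.Injective (toStalk f x) := by
  haveI := isIntegral f
  rw [injective_iff_map_eq_zero]
  intro r hr
  let t := f x
  have hfl : (f.stalkMap x).hom.Flat := Flat.stalkMap f x
  rw [toStalk_stalkMap] at hr
  letI := (f.stalkMap x).hom.toAlgebra
  haveI : Module.Flat ((Spec (CommRingCat.of R)).presheaf.stalk t) (X.presheaf.stalk x) := hfl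
  haveI : IsLocalHom (algebraMap ((Spec (CommRingCat.of R)).presheaf.stalk t) (X.presheaf.stalk x)) :=
    inferInstanceAs (IsLocalHom (f.stalkMap x).hom)
  haveI := Module.FaithfullyFlat.of_flat_of_isLocalHom (A := (Spec (CommRingCat.of R)).presheaf.stalk t)
    (B := X.presheaf.stalk x)
  have h0 := FaithfulSMul.algebraMap_injective ((Spec (CommRingCat.of R)).presheaf.stalk t)
    (X.presheaf.stalk x) (hr.trans (map_zero _).symm)
  have h1 := germ_injective_of_isIntegral (Spec (CommRingCat.of R)) t (U := ⊤) trivial (h0.trans (map_zero _).symm)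
  exact (Scheme.ΓSpecIso (CommRingCat.of R)).commRingCatIsoToRingEquiv.symm.injective
    (h1.trans (map_zero _).symm)

theorem isDVR_xi [IsDomain (X.presheaf.stalk (xi f))] : IsDiscreteValuationRing (X.presheaf.stalk (xi f)) := by
  haveI := isLocallyNoetherian f
  obtain ⟨π, hπ⟩ := IsDiscreteValuationRing.exists_irreducible R
  have hne : ¬ IsField (X.presheaf.stalk (xi f)) := by
    rw [IsLocalRing.isField_iff_maximalIdeal_eq, maximalIdeal_xi f hπ, Ideal.span_singleton_eq_bot]
    exact fun h => hπ.ne_zero (toStalk_injective f _ (h.trans (map_zero _).symm))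
  exact ((IsDiscreteValuationRing.TFAE (X.presheaf.stalk (xi f)) hne).out 4 0 rfl rfl).mp
    ⟨⟨_, maximalIdeal_xi f hπ⟩⟩

theorem irreducible_toStalk_xi [IsDomain (X.presheaf.stalk (xi f))] {π : R} (hπ : Irreducible π) :
    Irreducible (toStalk f (xi f) π) := by
  haveI := isDVR_xi f
  exact (IsDiscreteValuationRing.irreducible_iff_uniformizer _).2 (maximalIdeal_xi f hπ)

variable (hdim : topologicalKrullDim ↥(Fib f) = 1)
include hdim

theorem isClosed_of_ne_xi {x : X} (hx : f x = cpt R) (hne : x ≠ xi f) : IsClosed ({x} : Set X) := by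
  obtain ⟨z, rfl⟩ : x ∈ Set.range (f.fiberι (cpt R)) := by rw [Scheme.Hom.range_fiberι]; exact hx
  have hz : IsClosed ({z} : Set (Fib f)) :=
    (Groth.CurveBridge.isClosed_singleton_iff (Fib f) hdim z).2 fun h => hne (congrArg _ h)
  have hce : Topology.IsClosedEmbedding (f.fiberι (cpt R)) :=
    ⟨(f.fiberι (cpt R)).isEmbedding, by rw [Scheme.Hom.range_fiberι]; exact isClosed_fib f⟩
  simpa using hce.isClosedMap _ hz

theorem not_isClosed_xi : ¬ IsClosed ({xi f} : Set X) := by
  intro h
  have hz : IsClosed ({genericPoint (Fib f)} : Set (Fib f)) := by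
    have : ({genericPoint (Fib f)} : Set (Fib f)) = f.fiberι (cpt R) ⁻¹' {xi f} := by
      ext z
      exact ⟨fun hz => congrArg _ hz, fun hz => (f.fiberι (cpt R)).isEmbedding.injective hz⟩
    rw [this]
    exact h.preimage (f.fiberι (cpt R)).continuous
  exact (Groth.CurveBridge.isClosed_singleton_iff (Fib f) hdim _).1 hz rfl

/-- At a closed point of the special fibre the maximal ideal has two generators, one of them a
uniformizer. -/
theorem exists_param {π : R} (hπ : Irreducible π) {y : X} (hy : f y = cpt R) (hne : y ≠ xi f) :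
    ∃ t ∈ maximalIdeal (X.presheaf.stalk y),
      ∀ a ∈ maximalIdeal (X.presheaf.stalk y), ∃ u v, a = toStalk f y π * u + t * v := by
  have hyc := isClosed_of_ne_xi f hdim hy hne
  obtain ⟨z, rfl⟩ : y ∈ Set.range (f.fiberι (cpt R)) := by rw [Scheme.Hom.range_fiberι]; exact hy
  have hz : IsClosed ({z} : Set (Fib f)) :=
    (Groth.CurveBridge.isClosed_singleton_iff (Fib f) hdim z).2 fun h => hne (congrArg _ h)
  haveI := Groth.CurveBridge.isDVR_stalk (kf R) (Fib f) hdim hz
    (Groth.CurveBridge.regular_of_smooth (kf R) (Fib f) z)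
  obtain ⟨τ, hτ⟩ := IsDiscreteValuationRing.exists_irreducible ((Fib f).presheaf.stalk z)
  have hsurj := (Groth.Agent.S9501.result f (cpt R) z).1
  obtain ⟨t, rfl⟩ := hsurj τ
  haveI hloc : IsLocalHom ((f.fiberι (cpt R)).stalkMap z).hom := (f.fiberι (cpt R)).toLRSHom.prop _
  refine ⟨t, fun hu => hτ.not_isUnit (hu.map _), fun a ha => ?_⟩
  have h1 : (f.fiberι (cpt R)).stalkMap z a ∈ maximalIdeal ((Fib f).presheaf.stalk z) :=
    fun hu => ha (IsLocalHom.map_nonunit (f := ((f.fiberι (cpt R)).stalkMap z).hom) a hu)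
  rw [hτ.maximalIdeal_eq, Ideal.mem_span_singleton'] at h1
  obtain ⟨v, hv⟩ := h1
  obtain ⟨v, rfl⟩ := hsurj v
  have h2 : a - v * t ∈ RingHom.ker ((f.fiberι (cpt R)).stalkMap z).hom := by
    rw [RingHom.mem_ker, map_sub, map_mul, hv, sub_self]
  rw [ker_fiber_stalkMap f hπ z, Ideal.mem_span_singleton'] at h2
  obtain ⟨u, hu⟩ := h2
  exact ⟨u, v, by linear_combination -hu⟩

/-- Residues at a closed special point are algebraic over the base residue field. -/
theorem exists_poly {y : X} (hy : f y = cpt R) (hne : y ≠ xi f) (a : X.presheaf.stalk y) :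
    ∃ P : Polynomial R, P.map (red (R := R)) ≠ 0 ∧
      P.eval₂ (toStalk f y) a ∈ maximalIdeal (X.presheaf.stalk y) := by
  classical
  obtain ⟨z, rfl⟩ : y ∈ Set.range (f.fiberι (cpt R)) := by rw [Scheme.Hom.range_fiberι]; exact hy
  have hz : IsClosed ({z} : Set (Fib f)) :=
    (Groth.CurveBridge.isClosed_singleton_iff (Fib f) hdim z).2 fun h => hne (congrArg _ h)
  letI := Curv2.resAlgebra (kf R) (Fib f) z
  haveI : Module.Finite (kf R) ((Fib f).residueField z) :=
    Groth.Curves1.CurveMor.finite_residueField_of_isClosed hz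
  let r : X.presheaf.stalk (f.fiberι (cpt R) z) →+* (Fib f).residueField z :=
    ((Fib f).residue z).hom.comp ((f.fiberι (cpt R)).stalkMap z).hom
  obtain ⟨p, hp, hp0⟩ := IsIntegral.of_finite (kf R) (r a)
  obtain ⟨P, hP⟩ := Polynomial.map_surjective (red (R := R)) red_surjective p
  refine ⟨P, hP.symm ▸ hp.ne_zero, fun hu => ?_⟩
  apply (hu.map r).ne_zero
  rw [Polynomial.hom_eval₂]
  rw [← hP, Polynomial.eval₂_map] at hp0
  have e : r.comp (toStalk f (f.fiberι (cpt R) z)) =
      (algebraMap (kf R) ((Fib f).residueField z)).comp (red (R := R)) :=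
    RingHom.ext fun c => congrArg ((Fib f).residue z) (fiber_toStalk f z c)
  rw [e]
  exact hp0

omit hdim in
theorem resXi_toStalk (c : R) :
    resXi f (toStalk f (xi f) c) = algebraMap (kf R) (Fib f).functionField (red c) :=
  fiber_toStalk f (genericPoint (Fib f)) c

variable {Y : Scheme.{u}} (g : Y ⟶ Spec (CommRingCat.of R)) [IsProper g] [Smooth g]
  [GeometricallyConnected g] (hdimY : topologicalKrullDim ↥(Fib g) = 1)
include hdimY

/-- In positive genus the special valuation of a curve has no closed centre on another. -/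
theorem eq_xi_of_dominate (hgen : 1 ≤ Curv2.genus (kf R) (Fib f)) {y : Y} (hy : g y = cpt R)
    (ψ : Y.presheaf.stalk y →+* X.presheaf.stalk (xi f)) [IsLocalHom ψ]
    (hcomp : ∀ c : R, ψ (toStalk g y c) = toStalk f (xi f) c)
    (hfrac : ∀ a : X.presheaf.stalk (xi f), ∃ b c, ψ c ≠ 0 ∧ a * ψ c = ψ b) :
    y = xi g := by
  classical
  by_contra hne
  haveI := isIntegral f
  haveI := isDVR_xi f
  obtain ⟨π, hπ⟩ := IsDiscreteValuationRing.exists_irreducible R
  have hπ' := irreducible_toStalk_xi f hπ
  obtain ⟨t, ht, hsplit⟩ := exists_param g hdimY hπ hy hne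
  have h0 := Groth.CurveBridge.h0_of_geometrically (kf R) (Fib f) hdim
  have hFF := Groth.CurveBridge.isFunctionField_field (kf R) (Fib f) hdim h0
  have hconst : ∀ x : (Fib f).functionField, IsAlgebraic (kf R) x →
      x ∈ Set.range (algebraMap (kf R) (Fib f).functionField) := fun x hx => hFF.2 x hx
  have hmem : ∀ {a}, a ∈ maximalIdeal (Y.presheaf.stalk y) → resXi f (ψ a) = 0 := fun {a} ha =>
    (resXi_eq_zero_iff f _).2 fun hu => ha (IsLocalHom.map_nonunit (f := ψ) a hu)
  have hA : Stage (k := kf R) (resXi f) (toStalk f (xi f) π) ψ.range (ψ t) := by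
    refine ⟨⟨_, hcomp π⟩, ⟨t, rfl⟩, hmem ht, ?_, fun c => ?_, ?_⟩
    · rintro _ ⟨a, rfl⟩
      obtain ⟨P, hP0, hP⟩ := exists_poly g hdimY hy hne a
      refine hconst _ ⟨P.map (red (R := R)), hP0, ?_⟩
      rw [Polynomial.aeval_def, Polynomial.eval₂_map]
      have h := hmem hP
      rw [Polynomial.hom_eval₂, Polynomial.hom_eval₂] at h
      have e : (resXi f).comp (ψ.comp (toStalk g y)) =
          (algebraMap (kf R) (Fib f).functionField).comp (red (R := R)) :=
        RingHom.ext fun c => (congrArg (resXi f) (hcomp c)).trans (resXi_toStalk f c)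
      rw [e] at h
      exact h
    · obtain ⟨c, rfl⟩ := red_surjective c
      exact ⟨_, ⟨toStalk g y c, rfl⟩, by rw [hcomp, resXi_toStalk]⟩
    · rintro _ ⟨a, rfl⟩ ha
      have hau : a ∈ maximalIdeal (Y.presheaf.stalk y) :=
        fun hu => (resXi_eq_zero_iff f _).1 ha (hu.map ψ)
      obtain ⟨u, v, rfl⟩ := hsplit a hau
      exact ⟨_, ⟨u, rfl⟩, _, ⟨v, rfl⟩, by rw [map_add, map_mul, map_mul, hcomp]⟩
  obtain ⟨x, hx⟩ := exists_adjoin_eq_top hπ' (resXi_eq_zero_iff f) (resXi_surjective f) hconst hA
    fun a => by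
      obtain ⟨b, c, hc, h⟩ := hfrac a
      exact ⟨_, ⟨b, rfl⟩, _, ⟨c, rfl⟩, hc, h⟩
  have h := Groth.CurveBridge.genus_eq (Groth.CurveBridge.isRegCurve_of_smooth (kf R) (Fib f) hdim) hFF
  rw [Groth.FunFld1.genus_eq_zero_of_rational hFF hx] at h
  omega

end Groth.CurveExtend
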