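import Groth.Agent.CurveExtend.Basic
import Groth.Agent.Curves1.CurveMor.Smooth

/-!
# Centres of the special valuation of a smooth curve on a regular surface

A closed centre forces genus zero, a rational residue field and a regular fibre.
-/

set_option autoImplicit false
set_option backward.isDefEq.respectTransparency.types false

universe u

open CategoryTheory CategoryTheory.Limits AlgebraicGeometry IsLocalRing
open scoped Groth.CurveBridge

noncomputable section

namespace Groth.CurveExtend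

/-- In a regular local ring of dimension at most two an element outside the square of the maximal
ideal is part of a system of two generators. -/
theorem exists_param_of_regular {O : Type u} [CommRing O] [IsRegularLocalRing O]
    (hd : ringKrullDim O ≤ 2) {a : O} (ha : a ∈ maximalIdeal O) (ha2 : a ∉ maximalIdeal O ^ 2) :
    ∃ t ∈ maximalIdeal O, ∀ c ∈ maximalIdeal O, ∃ v w, c = a * v + t * w := by
  classical
  obtain ⟨S, hS, hspan⟩ := Submodule.FG.exists_span_set_encard_eq_spanFinrank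
    (maximalIdeal O).fg_of_isNoetherianRing
  have h2 : (maximalIdeal O).spanFinrank ≤ 2 := by
    have h : ((maximalIdeal O).spanFinrank : WithBot ℕ∞) ≤ ((2 : ℕ) : WithBot ℕ∞) := by
      rw [IsRegularLocalRing.spanFinrank_maximalIdeal]
      exact hd
    exact_mod_cast h
  obtain ⟨t₁, t₂, ht⟩ : ∃ t₁ t₂, maximalIdeal O = Ideal.span {t₁, t₂} := by
    have hle : S.encard ≤ 2 := hS.le.trans (by exact_mod_cast h2)
    rcases Set.eq_empty_or_nonempty S with rfl | ⟨t₁, h1⟩
    · exact ⟨0, 0, by rw [← hspan]; simp⟩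
    have h1le : (S \ {t₁}).encard ≤ 1 := by
      have h := Set.encard_diff_singleton_add_one h1
      rw [← h, show (2 : ℕ∞) = 1 + 1 from one_add_one_eq_two.symm] at hle
      exact (WithTop.add_le_add_iff_right (by decide : (1 : ℕ∞) ≠ ⊤)).1 hle
    rw [Set.encard_le_one_iff_eq] at h1le
    have hS2 : S = insert t₁ (S \ {t₁}) := (Set.insert_diff_singleton.trans (Set.insert_eq_of_mem h1)).symm
    rcases h1le with h0 | ⟨t₂, h2⟩
    · exact ⟨t₁, t₁, by rw [← hspan, hS2, h0]; simp⟩
    · exact ⟨t₁, t₂, by rw [← hspan, hS2, h2]⟩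
  have hm₁ : t₁ ∈ maximalIdeal O := ht.symm ▸ Ideal.subset_span (Set.mem_insert _ _)
  have hm₂ : t₂ ∈ maximalIdeal O :=
    ht.symm ▸ Ideal.subset_span (Set.mem_insert_of_mem _ (Set.mem_singleton _))
  have key : ∀ c ∈ maximalIdeal O, ∃ v w, v * t₁ + w * t₂ = c := fun c hc =>
    Ideal.mem_span_pair.1 (ht ▸ hc)
  obtain ⟨v, w, hvw⟩ := key a ha
  by_cases hv : IsUnit v
  · obtain ⟨e, rfl⟩ := hv
    refine ⟨t₂, hm₂, fun c hc => ?_⟩
    obtain ⟨p, q, rfl⟩ := key c hc
    refine ⟨p * ↑e⁻¹, q - p * ↑e⁻¹ * w, ?_⟩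
    have he : (e : O) * ↑e⁻¹ = 1 := Units.mul_inv e
    linear_combination (p * ↑e⁻¹) * hvw - (p * t₁) * he
  · by_cases hw : IsUnit w
    · obtain ⟨e, rfl⟩ := hw
      refine ⟨t₁, hm₁, fun c hc => ?_⟩
      obtain ⟨p, q, rfl⟩ := key c hc
      refine ⟨q * ↑e⁻¹, p - q * ↑e⁻¹ * v, ?_⟩
      have he : (e : O) * ↑e⁻¹ = 1 := Units.mul_inv e
      linear_combination (q * ↑e⁻¹) * hvw - (q * t₂) * he
    · refine absurd ?_ ha2
      rw [← hvw, pow_two]
      exact Ideal.add_mem _ (Ideal.mul_mem_mul hv hm₁) (Ideal.mul_mem_mul hw hm₂)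

variable {R : Type u} [CommRing R] [IsDomain R] [IsDiscreteValuationRing R]

theorem red_eq_zero_of_mem {π : R} (hπ : Irreducible π) {Y : Scheme.{u}} (g : Y ⟶ Spec (CommRingCat.of R))
    {y : Y} (hy : g y = cpt R) : toStalk g y π ∈ maximalIdeal (Y.presheaf.stalk y) := by
  intro hu
  rw [toStalk_stalkMap] at hu
  haveI : IsLocalHom (g.stalkMap y).hom := g.toLRSHom.prop y
  have h := IsLocalHom.map_nonunit (f := (g.stalkMap y).hom) _ hu
  refine (IsLocalRing.mem_maximalIdeal _).1 ?_ h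
  rw [Groth.Ega43DVR.maximalIdeal_stalk_eq R π hπ.maximalIdeal_eq _ hy]
  exact Ideal.subset_span rfl

/-- Residues at a closed special point are algebraic over the base residue field. -/
theorem exists_poly_of_isClosed {Y : Scheme.{u}} (g : Y ⟶ Spec (CommRingCat.of R)) [LocallyOfFiniteType g]
    {y : Y} (hy : g y = cpt R) (hyc : IsClosed ({y} : Set Y)) (a : Y.presheaf.stalk y) :
    ∃ P : Polynomial R, P.map (red (R := R)) ≠ 0 ∧
      P.eval₂ (toStalk g y) a ∈ maximalIdeal (Y.presheaf.stalk y) := by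
  classical
  haveI : LocallyOfFiniteType (Fib g ↘ Spec (CommRingCat.of (kf R))) :=
    inferInstanceAs (LocallyOfFiniteType (pullback.snd _ _))
  obtain ⟨z, rfl⟩ : y ∈ Set.range (g.fiberι (cpt R)) := by rw [Scheme.Hom.range_fiberι]; exact hy
  have hz : IsClosed ({z} : Set (Fib g)) := by
    have : ({z} : Set (Fib g)) = g.fiberι (cpt R) ⁻¹' {g.fiberι (cpt R) z} := by
      ext w
      exact ⟨fun hw => congrArg _ hw, fun hw => (g.fiberι (cpt R)).isEmbedding.injective hw⟩
    rw [this]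
    exact hyc.preimage (g.fiberι (cpt R)).continuous
  letI := Curv2.resAlgebra (kf R) (Fib g) z
  haveI : Module.Finite (kf R) ((Fib g).residueField z) :=
    Groth.Curves1.CurveMor.finite_residueField_of_isClosed hz
  let r : Y.presheaf.stalk (g.fiberι (cpt R) z) →+* (Fib g).residueField z :=
    ((Fib g).residue z).hom.comp ((g.fiberι (cpt R)).stalkMap z).hom
  obtain ⟨p, hp, hp0⟩ := IsIntegral.of_finite (kf R) (r a)
  obtain ⟨P, hP⟩ := Polynomial.map_surjective (red (R := R)) red_surjective p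
  refine ⟨P, hP.symm ▸ hp.ne_zero, fun hu => ?_⟩
  apply (hu.map r).ne_zero
  rw [Polynomial.hom_eval₂]
  rw [← hP, Polynomial.eval₂_map] at hp0
  have e : r.comp (toStalk g (g.fiberι (cpt R) z)) =
      (algebraMap (kf R) ((Fib g).residueField z)).comp (red (R := R)) :=
    RingHom.ext fun c => congrArg ((Fib g).residue z) (fiber_toStalk g z c)
  rw [e]
  exact hp0

variable {X : Scheme.{u}} (f : X ⟶ Spec (CommRingCat.of R)) [IsProper f] [Smooth f] [GeometricallyConnected f]
  (hdim : topologicalKrullDim ↥(Fib f) = 1)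
  {Y : Scheme.{u}} (g : Y ⟶ Spec (CommRingCat.of R)) [LocallyOfFiniteType g]
include hdim

/-- A closed centre of the special valuation forces genus zero, a rational residue field and a
regular fibre. -/
theorem of_closed_centre {π : R} (hπ : Irreducible π) {y : Y} [IsRegularLocalRing (Y.presheaf.stalk y)]
    (hd : ringKrullDim (Y.presheaf.stalk y) ≤ 2) (hy : g y = cpt R) (hyc : IsClosed ({y} : Set Y))
    (ψ : Y.presheaf.stalk y →+* X.presheaf.stalk (xi f)) [IsLocalHom ψ]
    (hcomp : ∀ c : R, ψ (toStalk g y c) = toStalk f (xi f) c)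
    (hfrac : ∀ a : X.presheaf.stalk (xi f), ∃ b c, ψ c ≠ 0 ∧ a * ψ c = ψ b) :
    Curv2.genus (kf R) (Fib f) = 0 ∧ toStalk g y π ∉ maximalIdeal (Y.presheaf.stalk y) ^ 2 ∧
      ∀ a : Y.presheaf.stalk y, ∃ c : R, a - toStalk g y c ∈ maximalIdeal (Y.presheaf.stalk y) := by
  classical
  haveI := isIntegral f
  haveI := isDVR_xi f
  have hπ' := irreducible_toStalk_xi f hπ
  have hmem : ∀ {a}, a ∈ maximalIdeal (Y.presheaf.stalk y) → resXi f (ψ a) = 0 := fun {a} ha =>
    (resXi_eq_zero_iff f _).2 fun hu => ha (IsLocalHom.map_nonunit (f := ψ) a hu)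
  have hmem' : ∀ a, a ∈ maximalIdeal (Y.presheaf.stalk y) → ψ a ∈ maximalIdeal (X.presheaf.stalk (xi f)) :=
    fun a ha hu => ha (IsLocalHom.map_nonunit (f := ψ) a hu)
  have h2 : toStalk g y π ∉ maximalIdeal (Y.presheaf.stalk y) ^ 2 := fun h => by
    have h1 : ψ (toStalk g y π) ∈ maximalIdeal (X.presheaf.stalk (xi f)) ^ 2 :=
      Ideal.pow_right_mono (Ideal.map_le_iff_le_comap.2 hmem') 2
        (Ideal.map_pow ψ (maximalIdeal _) 2 ▸ Ideal.mem_map_of_mem ψ h)
    rw [hcomp, hπ'.maximalIdeal_eq, Ideal.span_singleton_pow, Ideal.mem_span_singleton'] at h1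
    obtain ⟨w, hw⟩ := h1
    refine hπ'.not_isUnit (.of_mul_eq_one w (mul_left_cancel₀ hπ'.ne_zero ?_))
    linear_combination hw
  obtain ⟨t, ht, hsplit⟩ := exists_param_of_regular hd (red_eq_zero_of_mem hπ g hy) h2
  have h0 := Groth.CurveBridge.h0_of_geometrically (kf R) (Fib f) hdim
  have hFF := Groth.CurveBridge.isFunctionField_field (kf R) (Fib f) hdim h0
  have hconst : ∀ x : (Fib f).functionField, IsAlgebraic (kf R) x →
      x ∈ Set.range (algebraMap (kf R) (Fib f).functionField) := fun x hx => hFF.2 x hx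
  have hres : ∀ a, resXi f (ψ a) ∈ Set.range (algebraMap (kf R) (Fib f).functionField) := fun a => by
    obtain ⟨P, hP0, hP⟩ := exists_poly_of_isClosed g hy hyc a
    refine hconst _ ⟨P.map (red (R := R)), hP0, ?_⟩
    rw [Polynomial.aeval_def, Polynomial.eval₂_map]
    have h := hmem hP
    rw [Polynomial.hom_eval₂, Polynomial.hom_eval₂] at h
    have e : (resXi f).comp (ψ.comp (toStalk g y)) =
        (algebraMap (kf R) (Fib f).functionField).comp (red (R := R)) :=
      RingHom.ext fun c => (congrArg (resXi f) (hcomp c)).trans (resXi_toStalk f c)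
    rw [e] at h
    exact h
  refine ⟨?_, h2, fun a => ?_⟩
  · have hA : Stage (k := kf R) (resXi f) (toStalk f (xi f) π) ψ.range (ψ t) := by
      refine ⟨⟨_, hcomp π⟩, ⟨t, rfl⟩, hmem ht, ?_, fun c => ?_, ?_⟩
      · rintro _ ⟨a, rfl⟩
        exact hres a
      · obtain ⟨c, rfl⟩ := red_surjective c
        exact ⟨_, ⟨toStalk g y c, rfl⟩, by rw [hcomp, resXi_toStalk]⟩
      · rintro _ ⟨a, rfl⟩ ha
        have hau : a ∈ maximalIdeal (Y.presheaf.stalk y) :=
          fun hu => (resXi_eq_zero_iff f _).1 ha (hu.map ψ)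
        obtain ⟨u, v, rfl⟩ := hsplit a hau
        exact ⟨_, ⟨u, rfl⟩, _, ⟨v, rfl⟩, by rw [map_add, map_mul, map_mul, hcomp]⟩
    obtain ⟨x, hx⟩ := exists_adjoin_eq_top hπ' (resXi_eq_zero_iff f) (resXi_surjective f) hconst hA
      fun a => by
        obtain ⟨b, c, hc, h⟩ := hfrac a
        exact ⟨_, ⟨b, rfl⟩, _, ⟨c, rfl⟩, hc, h⟩
    rw [Groth.CurveBridge.genus_eq (Groth.CurveBridge.isRegCurve_of_smooth (kf R) (Fib f) hdim) hFF]
    exact Groth.FunFld1.genus_eq_zero_of_rational hFF hx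
  · obtain ⟨r, hr⟩ := hres a
    obtain ⟨c, rfl⟩ := red_surjective r
    refine ⟨c, fun hu => (hu.map ((resXi f).comp ψ)).ne_zero ?_⟩
    rw [map_sub, RingHom.comp_apply, RingHom.comp_apply, hcomp, resXi_toStalk, hr, sub_self]

end Groth.CurveExtend
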