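import Groth.Agent.CurveExtend.Basic
import Groth.Agent.ArSurfBasics.ZMTPoint
import Groth.Agent.VarietyBC.ZMTIso
import Groth.Agent.PropsBasic.IntegralImage

/-!
# Isomorphisms of generic fibres of smooth curves over discrete valuation rings extend

The closure of the graph is finite and birational over both curves, hence isomorphic to both.
-/

set_option autoImplicit false
set_option backward.isDefEq.respectTransparency.types false

universe u

open CategoryTheory CategoryTheory.Limits AlgebraicGeometry IsLocalRing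
open scoped Groth.CurveBridge

noncomputable section

namespace Groth.CurveExtend

variable {R : Type u} [CommRing R] [IsDomain R] [IsDiscreteValuationRing R]

/-- Two points of the graph over a closed special point which specialise into one another and have
the same other projection coincide. -/
theorem eq_of_specializes {Γ X Y : Scheme.{u}} {f : X ⟶ Spec (CommRingCat.of R)}
    {g : Y ⟶ Spec (CommRingCat.of R)} [IsProper f] [IsProper g] {p : Γ ⟶ X} {q : Γ ⟶ Y}
    (hpq : p ≫ f = q ≫ g) [IsClosedImmersion (pullback.lift p q hpq)] {x : X} (hx : f x = cpt R)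
    (hxc : IsClosed ({x} : Set X)) {a b : Γ} (ha : p a = x) (hb : p b = x) (hab : a ⤳ b)
    (hqab : q a = q b) : a = b := by
  let k := X.fromSpecResidueField x
  haveI : IsClosedImmersion k := isClosed_singleton_iff_isClosedImmersion.mp hxc
  haveI : IsClosedImmersion ((Spec (CommRingCat.of R)).fromSpecResidueField (cpt R)) :=
    isClosed_singleton_iff_isClosedImmersion.mp isClosed_cpt
  haveI : IsFinite (k ≫ f) := by
    rw [show k ≫ f = Spec.map (f.residueFieldMap x) ≫ (Spec (CommRingCat.of R)).fromSpecResidueField (f x) from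
      (Scheme.Hom.SpecMap_residueFieldMap_fromSpecResidueField f x).symm]
    haveI : IsClosedImmersion ((Spec (CommRingCat.of R)).fromSpecResidueField (f x)) :=
      isClosed_singleton_iff_isClosedImmersion.mp (hx ▸ isClosed_cpt)
    haveI : LocallyOfFiniteType (Spec.map (f.residueFieldMap x) ≫
        (Spec (CommRingCat.of R)).fromSpecResidueField (f x)) := by
      rw [Scheme.Hom.SpecMap_residueFieldMap_fromSpecResidueField]
      infer_instance
    haveI : LocallyOfFiniteType (Spec.map (f.residueFieldMap x)) :=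
      locallyOfFiniteType_of_comp _ ((Spec (CommRingCat.of R)).fromSpecResidueField (f x))
    haveI : IsFinite (Spec.map (f.residueFieldMap x)) :=
      isFinite_iff_locallyOfFiniteType_of_jacobsonSpace.2 inferInstance
    infer_instance
  let l := pullback.lift p q hpq
  have hT : ∀ w : Γ, p w = x → ∃ t : ↥(pullback k (pullback.fst f g)),
      pullback.snd k (pullback.fst f g) t = l w := fun w hw => by
    have : l w ∈ Set.range (pullback.snd k (pullback.fst f g)) := by
      rw [Scheme.Pullback.range_snd, Scheme.range_fromSpecResidueField]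
      show pullback.fst f g (l w) ∈ ({x} : Set X)
      rw [← Scheme.Hom.comp_apply, pullback.lift_fst, hw]
      rfl
    exact this
  obtain ⟨ta, hta⟩ := hT a ha
  obtain ⟨tb, htb⟩ := hT b hb
  have hspec : ta ⤳ tb := (pullback.snd k (pullback.fst f g)).isEmbedding.toIsInducing.specializes_iff.1
    (by rw [hta, htb]; exact hab.map l.continuous)
  let d := pullback.snd k (pullback.fst f g) ≫ pullback.snd f g
  haveI : IsFinite d := by
    have he : d = (pullbackRightPullbackFstIso f g k).hom ≫ pullback.snd (k ≫ f) g :=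
      (pullbackRightPullbackFstIso_hom_snd f g k).symm
    rw [he]
    infer_instance
  have hdq : ∀ (t : ↥(pullback k (pullback.fst f g))) (w : Γ),
      pullback.snd k (pullback.fst f g) t = l w → d t = q w := fun t w htw => by
    rw [Scheme.Hom.comp_apply, htw, ← Scheme.Hom.comp_apply, pullback.lift_snd]
  have hdd : d ta = d tb := by rw [hdq ta a hta, hdq tb b htb, hqab]
  haveI := (d.isDiscrete_preimage_singleton (d tb)).to_subtype
  have h1 : (⟨ta, hdd⟩ : d ⁻¹' {d tb}) ⤳ ⟨tb, rfl⟩ := (subtype_specializes_iff _ _).2 hspec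
  have h2 : ta = tb := congrArg Subtype.val h1.eq
  exact l.isEmbedding.injective (by rw [← hta, ← htb, h2])

variable
  {Γ X Y : Scheme.{u}} {f : X ⟶ Spec (CommRingCat.of R)} {g : Y ⟶ Spec (CommRingCat.of R)}
  [IsProper f] [Smooth f] [GeometricallyConnected f] [IsProper g]
  [IsIntegral Γ] [AlgebraicGeometry.IsNoetherian Γ] {p : Γ ⟶ X} {q : Γ ⟶ Y} [IsProper p] [IsProper q]
  {W : X.Opens} {V : Y.Opens} [IsIso (p ∣_ W)] [IsIso (q ∣_ V)]

omit [AlgebraicGeometry.IsNoetherian Γ] [IsProper q] [IsIso (q ∣_ V)] in
/-- The special valuation of `X` is the only valuation of the graph over it. -/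
theorem isIso_stalkMap_of_xi (hW : (W : Set X).Nonempty) (γ : Γ) (h : p γ = xi f) :
    IsIso (p.stalkMap γ) := by
  haveI := isIntegral f
  haveI := isDVR_xi f
  haveI : IsDomain (X.presheaf.stalk (p γ)) := inferInstance
  haveI : IsDiscreteValuationRing (X.presheaf.stalk (p γ)) := by
    have key : ∀ x, x = xi f → IsDiscreteValuationRing (X.presheaf.stalk x) := by rintro x rfl; infer_instance
    exact key _ h
  have hgen : p (genericPoint Γ) = genericPoint X := Groth.VarietyBC.base_genericPoint_of_isIso p hW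
  haveI := Groth.VarietyBC.isIso_stalkMap_genericPoint p hW
  let σ := X.presheaf.stalkSpecializes (genericPoint_specializes (p γ))
  letI : Algebra (X.presheaf.stalk (p γ)) X.functionField := σ.hom.toAlgebra
  let ρ : X.functionField ⟶ Γ.functionField :=
    X.presheaf.stalkSpecializes (specializes_of_eq hgen) ≫ p.stalkMap (genericPoint Γ)
  haveI : IsIso (X.presheaf.stalkSpecializes (specializes_of_eq hgen)) := by
    refine ⟨X.presheaf.stalkSpecializes (specializes_of_eq hgen.symm), ?_, ?_⟩ <;> simp
  haveI : IsIso ρ := IsIso.comp_isIso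
  let τ := Γ.presheaf.stalkSpecializes (genericPoint_specializes γ)
  have hsq : p.stalkMap γ ≫ τ = σ ≫ ρ := by
    rw [← Scheme.Hom.stalkSpecializes_stalkMap p (genericPoint Γ) γ (genericPoint_specializes γ)]
    simp only [σ, ρ, TopCat.Presheaf.stalkSpecializes_comp_assoc]
  have hτ : Function.Injective τ.hom := IsFractionRing.injective (Γ.presheaf.stalk γ) Γ.functionField
  have hσ : Function.Injective σ.hom := IsFractionRing.injective (X.presheaf.stalk (p γ)) X.functionField
  have hρ := (ConcreteCategory.isIso_iff_bijective ρ).1 inferInstance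
  refine (ConcreteCategory.isIso_iff_bijective _).2 ⟨fun a b hab => ?_, fun a => ?_⟩
  · have h1 := congrArg τ.hom hab
    rw [← CommRingCat.comp_apply, ← CommRingCat.comp_apply, hsq, CommRingCat.comp_apply,
      CommRingCat.comp_apply] at h1
    exact hσ (hρ.1 h1)
  · obtain ⟨z, hz⟩ := hρ.2 (τ.hom a)
    have hv := (inferInstance : ValuationRing (X.presheaf.stalk (p γ)))
    rcases ValuationRing.isInteger_or_isInteger (X.presheaf.stalk (p γ)) z with ⟨b, hb⟩ | ⟨b, hb⟩
    · refine ⟨b, hτ ?_⟩
      rw [← hz, ← CommRingCat.comp_apply, hsq, CommRingCat.comp_apply]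
      exact congrArg ρ.hom hb
    · rcases eq_or_ne z 0 with rfl | hz0
      · exact ⟨0, hτ (by rw [map_zero, map_zero, ← hz, map_zero])⟩
      have h1 : p.stalkMap γ b * a = 1 := hτ (by
        rw [map_mul, map_one, ← hz, ← CommRingCat.comp_apply, hsq, CommRingCat.comp_apply]
        show ρ.hom (σ.hom b) * ρ.hom z = 1
        rw [← map_mul, show σ.hom b = z⁻¹ from hb, inv_mul_cancel₀ hz0, map_one])
      obtain ⟨c, hc⟩ : IsUnit b := by
        haveI : IsLocalHom (p.stalkMap γ).hom := p.toLRSHom.prop γ
        exact IsLocalHom.map_nonunit (f := (p.stalkMap γ).hom) b (.of_mul_eq_one a h1)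
      refine ⟨((c⁻¹ : (X.presheaf.stalk (p γ))ˣ) : X.presheaf.stalk (p γ)), ?_⟩
      have h2 : p.stalkMap γ ((c⁻¹ : (X.presheaf.stalk (p γ))ˣ) : X.presheaf.stalk (p γ)) * p.stalkMap γ b = 1 := by
        rw [← map_mul, ← hc, Units.inv_mul, map_one]
      exact left_inv_eq_right_inv h2 h1

section Dominate

variable [IsIntegral Y] (hpq : p ≫ f = q ≫ g)

omit [AlgebraicGeometry.IsNoetherian Γ] [IsProper q] in
include hpq in
/-- The special valuation of `X` dominates the local rings at the images of its points on the graph. -/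
theorem exists_dominating (hW : (W : Set X).Nonempty) (hV : (V : Set Y).Nonempty) (γ : Γ) (h : p γ = xi f) :
    ∃ ψ : Y.presheaf.stalk (q γ) →+* X.presheaf.stalk (xi f), IsLocalHom ψ ∧ g (q γ) = cpt R ∧
      (∀ c : R, ψ (toStalk g (q γ) c) = toStalk f (xi f) c) ∧
      ∀ a : X.presheaf.stalk (xi f), ∃ b c, ψ c ≠ 0 ∧ a * ψ c = ψ b := by
  haveI := isIntegral f
  haveI := isIso_stalkMap_of_xi hW γ h
  have hqg : g (q γ) = cpt R := by
    rw [← Scheme.Hom.comp_apply, ← hpq, Scheme.Hom.comp_apply, h, f_xi]
  let e : X.presheaf.stalk (xi f) ⟶ X.presheaf.stalk (p γ) :=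
    X.presheaf.stalkSpecializes (specializes_of_eq h)
  haveI : IsIso e := by
    refine ⟨X.presheaf.stalkSpecializes (specializes_of_eq h.symm), ?_, ?_⟩ <;> simp [e]
  let ψ := q.stalkMap γ ≫ inv (e ≫ p.stalkMap γ)
  haveI : IsLocalHom ψ.hom := by
    haveI : IsLocalHom (q.stalkMap γ).hom := q.toLRSHom.prop γ
    exact ⟨fun a ha => IsLocalHom.map_nonunit (f := (q.stalkMap γ).hom) a (by
      have := ha.map (e ≫ p.stalkMap γ).hom
      rwa [← CommRingCat.comp_apply, Category.assoc, IsIso.inv_hom_id, Category.comp_id] at this)⟩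
  have hinv : ∀ a, (e ≫ p.stalkMap γ) (ψ a) = q.stalkMap γ a := fun a => by
    rw [← CommRingCat.comp_apply, Category.assoc, IsIso.inv_hom_id, Category.comp_id]
  have hinj := ((ConcreteCategory.isIso_iff_bijective (e ≫ p.stalkMap γ)).1 inferInstance).1
  refine ⟨ψ.hom, ‹_›, hqg, fun c => hinj ?_, fun a => ?_⟩
  · refine (hinv _).trans ?_
    rw [stalkMap_toStalk g q (q ≫ g) rfl γ c, CommRingCat.comp_apply]
    have he : ∀ x (hx : x = p γ), X.presheaf.stalkSpecializes (specializes_of_eq hx.symm) (toStalk f x c) =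
        toStalk f (p γ) c := by
      rintro x rfl
      rw [TopCat.Presheaf.stalkSpecializes_refl]
      rfl
    rw [he _ h.symm, stalkMap_toStalk f p (q ≫ g) hpq γ c]
  · -- fractions come from the generic point
    have hgen : q (genericPoint Γ) = genericPoint Y := Groth.VarietyBC.base_genericPoint_of_isIso q hV
    haveI := Groth.VarietyBC.isIso_stalkMap_genericPoint q hV
    let ρ : Y.functionField ⟶ Γ.functionField :=
      Y.presheaf.stalkSpecializes (specializes_of_eq hgen) ≫ q.stalkMap (genericPoint Γ)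
    haveI : IsIso (Y.presheaf.stalkSpecializes (specializes_of_eq hgen)) := by
      refine ⟨Y.presheaf.stalkSpecializes (specializes_of_eq hgen.symm), ?_, ?_⟩ <;> simp
    haveI : IsIso ρ := IsIso.comp_isIso
    let σ := Y.presheaf.stalkSpecializes (genericPoint_specializes (q γ))
    let τ := Γ.presheaf.stalkSpecializes (genericPoint_specializes γ)
    have hsq : q.stalkMap γ ≫ τ = σ ≫ ρ := by
      rw [← Scheme.Hom.stalkSpecializes_stalkMap q (genericPoint Γ) γ (genericPoint_specializes γ)]
      simp only [σ, ρ, TopCat.Presheaf.stalkSpecializes_comp_assoc]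
    obtain ⟨z, hz⟩ := ((ConcreteCategory.isIso_iff_bijective ρ).1 inferInstance).2
      (τ.hom ((e ≫ p.stalkMap γ) a))
    letI : Algebra (Y.presheaf.stalk (q γ)) Y.functionField := σ.hom.toAlgebra
    obtain ⟨b, c, hc, rfl⟩ := IsFractionRing.div_surjective (A := Y.presheaf.stalk (q γ)) z
    have hτ : Function.Injective τ.hom := IsFractionRing.injective (Γ.presheaf.stalk γ) Γ.functionField
    have hc0 : ρ.hom (σ.hom c) ≠ 0 := fun h0 => nonZeroDivisors.ne_zero hc
      (IsFractionRing.injective (Y.presheaf.stalk (q γ)) Y.functionField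
        ((((ConcreteCategory.isIso_iff_bijective ρ).1 inferInstance).1
          (h0.trans (map_zero ρ.hom).symm)).trans (map_zero σ.hom).symm))
    refine ⟨b, c, fun h0 => hc0 ?_, hinj (hτ ?_)⟩
    · rw [← CommRingCat.comp_apply σ ρ, ← hsq, CommRingCat.comp_apply, ← hinv, show ψ c = 0 from h0,
        map_zero, map_zero]
    · rw [map_mul, map_mul, show (e ≫ p.stalkMap γ) (ψ.hom c) = _ from hinv c,
        show (e ≫ p.stalkMap γ) (ψ.hom b) = _ from hinv b, ← hz,
        ← CommRingCat.comp_apply (q.stalkMap γ) τ, ← CommRingCat.comp_apply (q.stalkMap γ) τ, hsq,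
        CommRingCat.comp_apply, CommRingCat.comp_apply]
      show ρ.hom (σ.hom b / σ.hom c) * ρ.hom (σ.hom c) = ρ.hom (σ.hom b)
      rw [← map_mul, div_mul_cancel₀ _ (fun h0 => hc0 (by rw [h0, map_zero]))]

end Dominate

variable [Smooth g] [GeometricallyConnected g] (hpq : p ≫ f = q ≫ g) (hdimX : topologicalKrullDim ↥(Fib f) = 1)
  (hdimY : topologicalKrullDim ↥(Fib g) = 1)

include hpq hdimX hdimY in
omit [AlgebraicGeometry.IsNoetherian Γ] [IsProper q] in
/-- The special valuations correspond. -/
theorem q_eq_xi (hW : (W : Set X).Nonempty) (hV : (V : Set Y).Nonempty)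
    (hgenX : 1 ≤ Curv2.genus (kf R) (Fib f)) (γ : Γ) (h : p γ = xi f) : q γ = xi g := by
  haveI := isIntegral g
  obtain ⟨ψ, hψ, hy, hcomp, hfrac⟩ := exists_dominating hpq hW hV γ h
  exact eq_xi_of_dominate f hdimX g hdimY hgenX hy ψ hcomp hfrac

variable [IsClosedImmersion (pullback.lift p q hpq)]

include hpq hdimX hdimY in
/-- One projection of the graph is an isomorphism. -/
theorem isIso_fst (hWs : ∀ x : X, x ∉ W → f x = cpt R) (hW : (W : Set X).Nonempty) (hV : (V : Set Y).Nonempty)
    (hgenX : 1 ≤ Curv2.genus (kf R) (Fib f)) (hgenY : 1 ≤ Curv2.genus (kf R) (Fib g)) : IsIso p := by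
  haveI := isIntegral f
  haveI := isIntegral g
  haveI := isDVR_xi f
  refine Groth.ArSurfBasics.isIso_of_forall_nhd p fun x => ?_
  by_cases hxW : x ∈ W
  · exact ⟨W, hxW, inferInstance⟩
  haveI := normal f x
  obtain ⟨γ₀, hγ₀⟩ : x ∈ Set.range p := by
    have hd : DenseRange p := by
      refine Dense.mono ?_ (W.isOpen.dense hW)
      intro w hw
      obtain ⟨z, hz⟩ := (p ∣_ W).homeomorph.surjective ⟨w, hw⟩
      refine ⟨z.1, ?_⟩
      have h := congrArg W.ι hz
      change W.ι ((p ∣_ W) z) = w at h
      rw [← Scheme.Hom.comp_apply, morphismRestrict_ι, Scheme.Hom.comp_apply] at h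
      exact h
    rw [p.isClosedMap.isClosed_range.closure_eq.symm, hd.closure_range]
    trivial
  refine Groth.VarietyBC.exists_isIso_of_quasiFiniteAt p hW x γ₀ hγ₀
    (Groth.ArSurfBasics.quasiFiniteAt_of_isolated p γ₀ fun z hz hrel => ?_)
  have hx := hWs x hxW
  rw [hγ₀] at hz
  by_cases hxi : x = xi f
  · subst hxi
    -- two points over the special valuation coincide
    have uniq : ∀ a b : Γ, p a = xi f → p b = xi f → a ⤳ b → a = b := fun a b ha hb hab => by
      haveI := isIso_stalkMap_of_xi hW b hb
      haveI : IsDiscreteValuationRing (X.presheaf.stalk (p b)) := by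
        have key : ∀ x, x = xi f → IsDiscreteValuationRing (X.presheaf.stalk x) := by rintro x rfl; infer_instance
        exact key _ hb
      let ε := (asIso (p.stalkMap b)).commRingCatIsoToRingEquiv
      haveI : IsDiscreteValuationRing (Γ.presheaf.stalk b) := IsDiscreteValuationRing.RingEquivClass.isDiscreteValuationRing ε
      obtain ⟨P, hP⟩ : a ∈ Set.range (Γ.fromSpecStalk b) := Scheme.range_fromSpecStalk.ge hab
      by_cases hP0 : P.asIdeal = ⊥
      · exfalso
        haveI : IsDomain (Γ.presheaf.stalk b) := inferInstance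
        have hPg : P = genericPoint ↥(Spec (Γ.presheaf.stalk b)) := by
          rw [genericPoint_eq_bot_of_affine]
          exact PrimeSpectrum.ext hP0
        have hag : a = genericPoint Γ := by
          have h1 : P ⤳ closedPoint (Γ.presheaf.stalk b) := IsLocalRing.specializes_closedPoint P
          obtain ⟨Q, hQ⟩ : genericPoint Γ ∈ Set.range (Γ.fromSpecStalk b) :=
            Scheme.range_fromSpecStalk.ge (genericPoint_specializes b)
          have h2 : (Γ.fromSpecStalk b) P ⤳ (Γ.fromSpecStalk b) Q :=
            ((hPg ▸ genericPoint_specializes Q)).map (Γ.fromSpecStalk b).continuous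
          rw [hP, hQ] at h2
          exact (h2.antisymm (genericPoint_specializes a)).eq
        subst hag
        rw [Groth.VarietyBC.base_genericPoint_of_isIso p hW] at ha
        exact hxW (ha ▸ ((genericPoint_spec X).mem_open_set_iff W.isOpen).2 (by simpa using hW))
      · have hPm : P = closedPoint (Γ.presheaf.stalk b) :=
          PrimeSpectrum.ext (IsLocalRing.eq_maximalIdeal (P.isPrime.isMaximal hP0))
        rw [← hP, hPm, Scheme.fromSpecStalk_closedPoint]
    exact hrel.elim (fun h => uniq z γ₀ hz hγ₀ h) fun h => (uniq γ₀ z hγ₀ hz h).symm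
  · -- over a closed point all points of the graph are closed
    have hclosed : ∀ γ : Γ, p γ = x → IsClosed ({q γ} : Set Y) := fun γ hγ => by
      refine isClosed_of_ne_xi g hdimY ?_ fun hq => hxi ?_
      · rw [← Scheme.Hom.comp_apply, ← hpq, Scheme.Hom.comp_apply, hγ, hx]
      · rw [← hγ]
        exact q_eq_xi hpq.symm hdimY hdimX hV hW hgenY γ hq
    have key : ∀ a b : Γ, p a = x → p b = x → a ⤳ b → a = b := fun a b ha hb hab => by
      have hqab : q a = q b :=
        ((hclosed a ha).closure_eq ▸ (hab.map q.continuous).mem_closure : q b ∈ ({q a} : Set Y)).symm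
      have hxc := isClosed_of_ne_xi f hdimX hx hxi
      exact eq_of_specializes hpq hx hxc ha hb hab hqab
    exact hrel.elim (fun h => key z γ₀ hz hγ₀ h) fun h => (key γ₀ z hγ₀ hz h).symm

/-- The fraction field of a discrete valuation ring is the localisation at a uniformiser. -/
theorem isLocalization_away_uniformizer {B : Type u} [CommRing B] [IsDomain B] [IsDiscreteValuationRing B]
    {ϖ : B} (hϖ : Irreducible ϖ) (K : Type u) [Field K] [Algebra B K] [IsFractionRing B K] :
    IsLocalization.Away ϖ K := by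
  have hinj := IsFractionRing.injective B K
  refine { map_units := ?_, surj := fun z => ?_, exists_of_eq := fun h => ⟨1, by rw [hinj h]⟩ }
  · rintro ⟨_, n, rfl⟩
    exact (isUnit_iff_ne_zero.2 fun h => pow_ne_zero n hϖ.ne_zero (hinj (h.trans (map_zero _).symm)))
  · obtain ⟨a, b, hb, rfl⟩ := IsFractionRing.div_surjective (A := B) z
    obtain ⟨n, w, rfl⟩ := IsDiscreteValuationRing.eq_unit_mul_pow_irreducible
      (nonZeroDivisors.ne_zero hb) hϖ
    refine ⟨⟨a * ↑w⁻¹, ϖ ^ n, n, rfl⟩, ?_⟩
    have h0 : algebraMap B K (↑w * ϖ ^ n) ≠ 0 := fun h =>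
      nonZeroDivisors.ne_zero hb (hinj (h.trans (map_zero _).symm))
    dsimp only
    have hw : algebraMap B K ↑w * algebraMap B K ↑w⁻¹ = 1 := by
      rw [← map_mul, Units.mul_inv, map_one]
    rw [div_mul_eq_mul_div, div_eq_iff h0, map_mul, map_mul]
    linear_combination (-(algebraMap B K a * algebraMap B K (ϖ ^ n))) * hw

omit hpq in
/-- An open point of the base. -/
theorem range_generic {K : Type u} [Field K] [Algebra R K] [IsFractionRing R K] :
    Set.range (Spec.map (CommRingCat.ofHom (algebraMap R K))) =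
      {(⟨⊥, Ideal.isPrime_bot⟩ : PrimeSpectrum R)} := by
  have h : ∀ c, Spec.map (CommRingCat.ofHom (algebraMap R K)) c =
      (⟨⊥, Ideal.isPrime_bot⟩ : PrimeSpectrum R) := fun c => by
    refine PrimeSpectrum.ext ?_
    change Ideal.comap (algebraMap R K) c.asIdeal = ⊥
    rw [Ideal.eq_bot_of_prime c.asIdeal]
    exact (RingHom.ker_eq_comap_bot _).symm.trans
      ((RingHom.injective_iff_ker_eq_bot _).1 (IsFractionRing.injective R K))
  ext s
  exact ⟨fun ⟨c, hc⟩ => hc ▸ h c, fun hs => ⟨default, (h _).trans hs.symm⟩⟩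

end Groth.CurveExtend
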