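import Groth.Agent.CurveExtend.Graph
import Groth.Agent.CurveExtend.Main

/-!
# The extension theorem
-/

set_option autoImplicit false
set_option backward.isDefEq.respectTransparency.types false

universe u

open CategoryTheory CategoryTheory.Limits AlgebraicGeometry IsLocalRing
open scoped Groth.CurveBridge

noncomputable section

namespace Groth.CurveExtend

variable {R : Type u} [CommRing R] [IsDomain R] [IsDiscreteValuationRing R]
  {X Y : Scheme.{u}} (f : X ⟶ Spec (CommRingCat.of R)) (g : Y ⟶ Spec (CommRingCat.of R))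
  [IsProper f] [Smooth f] [GeometricallyConnected f] [IsProper g] [Smooth g] [GeometricallyConnected g]
  {Z : Scheme.{u}} (a : Z ⟶ X) (a' : Z ⟶ Y) [IsOpenImmersion a] [IsOpenImmersion a']

include f g in
/-- Isomorphisms of the generic fibres of smooth curves of positive genus extend. -/
theorem exists_iso (h : a ≫ f = a' ≫ g)
    (ha : Set.range a = f ⁻¹' {(⟨⊥, Ideal.isPrime_bot⟩ : PrimeSpectrum R)})
    (ha' : Set.range a' = g ⁻¹' {(⟨⊥, Ideal.isPrime_bot⟩ : PrimeSpectrum R)})
    (hdimX : topologicalKrullDim ↥(Fib f) = 1) (hdimY : topologicalKrullDim ↥(Fib g) = 1)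
    (hgenX : 1 ≤ Curv2.genus (kf R) (Fib f)) (hgenY : 1 ≤ Curv2.genus (kf R) (Fib g)) :
    ∃ e : X ≅ Y, e.hom ≫ g = f ∧ a ≫ e.hom = a' ∧ ∀ e' : X ⟶ Y, a ≫ e' = a' → e' = e.hom := by
  haveI := isIntegral f
  haveI := isIntegral g
  haveI := isLocallyNoetherian f
  haveI := isLocallyNoetherian g
  haveI : CompactSpace X := QuasiCompact.compactSpace_of_compactSpace f
  haveI : CompactSpace Y := QuasiCompact.compactSpace_of_compactSpace g
  haveI : IsNoetherian X := {}
  have hWne : (a.opensRange : Set X).Nonempty := by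
    refine ⟨genericPoint X, ?_⟩
    have hb : f (genericPoint X) = (⟨⊥, Ideal.isPrime_bot⟩ : PrimeSpectrum R) := by
      obtain ⟨x', hx', hxb⟩ := Flat.generalizingMap f (show
        ((⟨⊥, Ideal.isPrime_bot⟩ : PrimeSpectrum R) : ↥(Spec (CommRingCat.of R))) ⤳ f (genericPoint X) from
          (PrimeSpectrum.le_iff_specializes _ _).1 bot_le)
      obtain rfl : x' = genericPoint X := (hx'.antisymm (genericPoint_specializes x')).eq
      exact hxb
    rw [Scheme.Hom.coe_opensRange, ha]
    exact hb
  haveI : Nonempty Z := by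
    obtain ⟨_, z, -⟩ := hWne
    exact ⟨z⟩
  haveI : IsIntegral Z := isIntegral_of_isOpenImmersion a
  obtain ⟨Γ, p, q, hpq, j, _, _, _, _, _, hpW, hqV, hp, hq⟩ := exists_graph f g a a' h
  have hV : (a'.opensRange : Set Y).Nonempty := ⟨_, ⟨Classical.arbitrary Z, rfl⟩⟩
  have hWs : ∀ x : X, x ∉ a.opensRange → f x = cpt R := fun x hx =>
    (eq_cpt_or_bot (f x)).resolve_right fun hb => hx (ha.ge hb)
  have hVs : ∀ y : Y, y ∉ a'.opensRange → g y = cpt R := fun y hy =>
    (eq_cpt_or_bot (g y)).resolve_right fun hb => hy (ha'.ge hb)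
  haveI : IsIso p := isIso_fst hpq hdimX hdimY hWs hWne hV hgenX hgenY
  haveI : IsClosedImmersion (pullback.lift q p hpq.symm) := by
    rw [show pullback.lift q p hpq.symm = pullback.lift p q hpq ≫ (pullbackSymmetry f g).hom by
      apply pullback.hom_ext
      · exact (pullback.lift_fst _ _ _).trans ((pullback.lift_snd p q hpq).symm.trans
          ((congrArg (pullback.lift p q hpq ≫ ·) (pullbackSymmetry_hom_comp_fst f g)).symm.trans
            (Category.assoc _ _ _).symm))
      · exact (pullback.lift_snd _ _ _).trans ((pullback.lift_fst p q hpq).symm.trans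
          ((congrArg (pullback.lift p q hpq ≫ ·) (pullbackSymmetry_hom_comp_snd f g)).symm.trans
            (Category.assoc _ _ _).symm))]
    infer_instance
  haveI : IsIso q := isIso_fst hpq.symm hdimY hdimX hVs hV hWne hgenY hgenX
  refine ⟨(asIso p).symm ≪≫ asIso q, ?_, ?_, fun e' he' => ?_⟩
  · show (inv p ≫ q) ≫ g = f
    rw [Category.assoc, ← hpq, IsIso.inv_hom_id_assoc]
  · show a ≫ inv p ≫ q = a'
    rw [← hp, Category.assoc, IsIso.hom_inv_id_assoc, hq]
  · haveI : IsDominant a := ⟨by
      rw [DenseRange, ← Scheme.Hom.coe_opensRange]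
      exact a.opensRange.isOpen.dense hWne⟩
    haveI : Y.IsSeparated := ⟨by rw [← terminal.comp_from g]; infer_instance⟩
    refine ext_of_isDominant a (he'.trans ?_)
    show a' = a ≫ inv p ≫ q
    rw [← hp, Category.assoc, IsIso.hom_inv_id_assoc, hq]

end Groth.CurveExtend
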