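import Groth.Agent.CurveExtend.Unique
import Groth.Agent.CurveExtend.AutScheme
import Groth.Agent.FibreVA.Curve

/-!
# Genus zero: non-unique minimal models have closed fibre the projective line
-/

set_option autoImplicit false
set_option backward.isDefEq.respectTransparency.types false
set_option maxHeartbeats 1000000
set_option linter.style.haveILetI false

universe u

open CategoryTheory CategoryTheory.Limits AlgebraicGeometry TopologicalSpace IsLocalRing
open scoped Groth.CurveBridge

noncomputable section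

namespace Groth.CurveExtend.GenusZero

variable {R : Type u} [CommRing R] [IsDomain R] [IsDiscreteValuationRing R]

/-- A morphism to the base is determined by the images of constants. -/
theorem ext_to_base {Z : Scheme.{u}} {a b : Z ⟶ Spec (CommRingCat.of R)}
    (h : ∀ c : R, a.appTop ((Scheme.ΓSpecIso (CommRingCat.of R)).inv c) =
      b.appTop ((Scheme.ΓSpecIso (CommRingCat.of R)).inv c)) : a = b := by
  refine ext_of_isAffine (CommRingCat.hom_ext (RingHom.ext fun t => ?_))
  obtain ⟨c, rfl⟩ := (ConcreteCategory.bijective_of_isIso (Scheme.ΓSpecIso (CommRingCat.of R)).inv).2 t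
  exact h c

theorem red_eq_zero {π : R} (hπ : Irreducible π) {c : R} (hc : c ∈ maximalIdeal R) {X : Scheme.{u}}
    (p : X ⟶ Spec (CommRingCat.of R)) {x : X} (hx : p x = cpt R) :
    X.residue x (toStalk p x c) = 0 := by
  rw [hπ.maximalIdeal_eq, Ideal.mem_span_singleton'] at hc
  obtain ⟨d, rfl⟩ := hc
  rw [map_mul, map_mul, (IsLocalRing.residue_eq_zero_iff _).2 (red_eq_zero_of_mem hπ p hx) |> fun h =>
    (h : X.residue x (toStalk p x π) = 0), mul_zero]

/-- The reduction of constants is a ring map from the residue field. -/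
def redHom : ResidueField R →+* kf R :=
  Ideal.Quotient.lift (maximalIdeal R) red fun c hc => by
    obtain ⟨π, hπ⟩ := IsDiscreteValuationRing.exists_irreducible R
    rw [hπ.maximalIdeal_eq, Ideal.mem_span_singleton'] at hc
    obtain ⟨d, rfl⟩ := hc
    have h := red_eq_zero hπ (hπ.maximalIdeal_eq ▸ Ideal.mem_span_singleton_self π)
      (𝟙 (Spec (CommRingCat.of R))) (x := cpt R) rfl
    have h0 : red (R := R) π = 0 := by
      have h1 := fromSpecResidueField_appTop_const (𝟙 (Spec (CommRingCat.of R))) (cpt R) π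
      rw [h, map_zero] at h1
      show (Scheme.ΓSpecIso ((Spec (CommRingCat.of R)).residueField (cpt R))).hom.hom _ = 0
      erw [h1]
      exact map_zero _
    rw [map_mul, h0, mul_zero]

theorem fromSpecResidueField_eq : Spec.map (CommRingCat.ofHom (redHom (R := R))) ≫
    Spec.map (CommRingCat.ofHom (residue R)) = (Spec (CommRingCat.of R)).fromSpecResidueField (cpt R) := by
  refine ext_to_base fun c => ?_
  rw [← Spec.map_comp, ← CommRingCat.ofHom_comp]
  refine (ConcreteCategory.congr_hom (Scheme.ΓSpecIso_inv_naturality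
    (CommRingCat.ofHom ((redHom (R := R)).comp (residue R)))) c).symm.trans ?_
  show (Scheme.ΓSpecIso ((Spec (CommRingCat.of R)).residueField (cpt R))).inv.hom (red c) = _
  exact Iso.hom_inv_id_apply (Scheme.ΓSpecIso ((Spec (CommRingCat.of R)).residueField (cpt R))) _

variable {C X : Scheme.{u}} {f : C ⟶ Spec (CommRingCat.of (FractionRing R))}
  {p : X ⟶ Spec (CommRingCat.of R)}

/-- A minimal model of genus zero with a rational regular point of the closed fibre has closed fibre `P¹`. -/
theorem exists_iso_projectiveLine (hC : Curve.IsSmoothProperCurve (FractionRing R) C f) (hH0 : IsIso f.appTop)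
    (hX : Models.IsMinimalModel R X p C f) (hgen : Models.curveGenus (FractionRing R) C f = 0)
    (hpt : HasPoint p) :
    ∃ e : Models.specialFibre R X p ≅ CohB1.ProjSpace 1 (ResidueField R),
      e.hom ≫ CohB1.ProjSpace.toSpec 1 (ResidueField R) =
        pullback.snd p (Spec.map (CommRingCat.ofHom (algebraMap R (ResidueField R)))) := by
  obtain ⟨⟨⟨hflat, -, -, g, hg⟩, hp, -⟩, -⟩ := id hX
  have hS := Unique.isSurf_of_model hC hH0 hX.1 hg
  haveI := hS.integral
  haveI := hp
  haveI := hflat
  haveI : IsProper f := hC.1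
  haveI : IsIntegral C := hC.2.2.1
  obtain ⟨x, π, hπ, hx, hπx, hres⟩ := hpt
  haveI := Minimal.smooth_of_genus_zero hC hH0 hX hS.dim hgen hπ hx hπx hres
  haveI := Minimal.geometricallyConnected hg hH0
  let k := ResidueField R
  let σ := Spec.map (CommRingCat.ofHom (algebraMap R k))
  let Z := pullback p σ
  letI : Z.Over (Spec (CommRingCat.of k)) := ⟨pullback.snd p σ⟩
  haveI : IsProper (Z ↘ Spec (CommRingCat.of k)) := inferInstanceAs (IsProper (pullback.snd _ _))
  haveI : Smooth (Z ↘ Spec (CommRingCat.of k)) := inferInstanceAs (Smooth (pullback.snd _ _))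
  haveI : GeometricallyConnected (Z ↘ Spec (CommRingCat.of k)) :=
    inferInstanceAs (GeometricallyConnected (pullback.snd p σ))
  haveI := Groth.FibreVA.Curve.geometricallyIntegral_of_connected k (Z ↘ Spec (CommRingCat.of k))
  -- comparison with the scheme-theoretic fibre
  letI : Algebra k (kf R) := (redHom (R := R)).toAlgebra
  let τ := Spec.map (CommRingCat.ofHom (algebraMap k (kf R)))
  have hτ : τ ≫ σ = (Spec (CommRingCat.of R)).fromSpecResidueField (cpt R) := fromSpecResidueField_eq
  let m : Fib p ⟶ Z := pullback.lift (p.fiberι (cpt R)) (p.fiberToSpecResidueField (cpt R) ≫ τ)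
    (by rw [Category.assoc, hτ]; exact pullback.condition)
  have hm : IsPullback m (p.fiberToSpecResidueField (cpt R)) (pullback.snd p σ) τ := by
    refine IsPullback.of_right ?_ (pullback.lift_snd _ _ _) (IsPullback.of_hasPullback p σ)
    rw [show m ≫ pullback.fst p σ = _ from pullback.lift_fst _ _ _, hτ]
    exact IsPullback.of_hasPullback _ _
  have hdimF : topologicalKrullDim ↥(Fib p) = 1 := (Minimal.dim_fib hg).trans hC.2.2.2
  have hdim : topologicalKrullDim Z = 1 :=
    (Groth.Curves1.RR.dim_of_isPullback (k := k) (K := kf R) (pullback.snd p σ) _ hm).symm.trans hdimF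
  have hgZ : Curv2.genus k Z = 0 := by
    have hbc : Groth.CohBase.IsBC (A := k) (A' := kf R) m := hm
    rw [← AutScheme.genus_of_isBC (k := k) (K := kf R) m hbc, ← Minimal.genus_fib hg hH0 hC.2.2.2.le hdimF.le
      (Groth.CurveBridge.h0_of_geometrically (kf R) (Fib p) hdimF), hgen]
  -- the rational point
  let χ : R →+* X.residueField x := (X.residue x).hom.comp (toStalk p x)
  let ψ : k →+* X.residueField x := Ideal.Quotient.lift (maximalIdeal R) χ fun c hc => red_eq_zero hπ hc p hx
  have hψ : Function.Bijective ψ := by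
    refine ⟨ψ.injective, fun t => ?_⟩
    obtain ⟨a, rfl⟩ := X.residue_surjective x t
    obtain ⟨c, hc⟩ := hres a
    refine ⟨residue R c, ?_⟩
    show X.residue x (toStalk p x c) = X.residue x a
    exact (sub_eq_zero.1 ((map_sub (X.residue x).hom a _).symm.trans
      ((IsLocalRing.residue_eq_zero_iff _).2 hc))).symm
  let e := RingEquiv.ofBijective ψ hψ
  let ρ : Spec (CommRingCat.of k) ⟶ X :=
    Spec.map (CommRingCat.ofHom e.symm.toRingHom) ≫ X.fromSpecResidueField x
  have hρ : ρ ≫ p = σ := by
    refine ext_to_base fun c => ?_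
    rw [Category.assoc, Scheme.Hom.comp_appTop, Scheme.Hom.comp_appTop, CommRingCat.comp_apply,
      CommRingCat.comp_apply, fromSpecResidueField_appTop_const]
    refine (ConcreteCategory.congr_hom (Scheme.ΓSpecIso_inv_naturality
      (CommRingCat.ofHom e.symm.toRingHom)) _).symm.trans ?_
    refine Eq.trans ?_ (ConcreteCategory.congr_hom (Scheme.ΓSpecIso_inv_naturality
      (CommRingCat.ofHom (algebraMap R k))) c)
    refine congrArg (Scheme.ΓSpecIso (CommRingCat.of k)).inv ?_
    show e.symm (χ c) = residue R c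
    rw [RingEquiv.symm_apply_eq]
    rfl
  let s : Spec (CommRingCat.of k) ⟶ Z := pullback.lift ρ (𝟙 _) (by rw [hρ, Category.id_comp])
  exact Groth.Curves1.RR.iso_projectiveLine_of_ratPoint k hdim hgZ s (pullback.lift_snd _ _ _)

/-- A morphism between minimal models is an isomorphism. -/
theorem isIso_of_hom [IsIntegral C] {Y : Scheme.{u}} {q : Y ⟶ Spec (CommRingCat.of R)} {gX : C ⟶ X} {gY : C ⟶ Y}
    (hX : Unique.IsSurf f p gX) (hY : Unique.IsSurf f q gY)
    (hmin : ∀ Γ : ArSurf.VertComp R (Over.mk q), ¬ Models.IsExcCurve Γ.ι) (b : Y ⟶ X) (hb : b ≫ p = q)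
    (hg : gY ≫ b = gX) : IsIso b := by
  haveI := hX.integral
  haveI := hY.integral
  haveI := hX.proper
  haveI := hY.proper
  haveI := hY.flat
  haveI := Minimal.isOpenImmersion_left hX.pb
  exact Minimal.isIso_of_minimal hY.reg hX.reg hY.dim hX.dim hmin b hb (Unique.isIso_restrict hX hY b hb hg)
    ⟨gX (genericPoint C), ⟨_, rfl⟩⟩

/-- The statement: if two minimal models of genus zero differ, every minimal model has closed fibre `P¹`. -/
theorem specialFibre_iso_P1 {X₁ X₂ : Scheme.{u}} {p₁ : X₁ ⟶ Spec (CommRingCat.of R)}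
    {p₂ : X₂ ⟶ Spec (CommRingCat.of R)} (hC : Curve.IsSmoothProperCurve (FractionRing R) C f) (hH0 : IsIso f.appTop)
    (hgen : Models.curveGenus (FractionRing R) C f = 0)
    (h₁ : Models.IsMinimalModel R X₁ p₁ C f) (h₂ : Models.IsMinimalModel R X₂ p₂ C f)
    (hX : Models.IsMinimalModel R X p C f) {g₁ : C ⟶ X₁}
    (hg₁ : IsPullback g₁ f p₁ (Spec.map (CommRingCat.ofHom (algebraMap R (FractionRing R))))) {g₂ : C ⟶ X₂}
    (hg₂ : IsPullback g₂ f p₂ (Spec.map (CommRingCat.ofHom (algebraMap R (FractionRing R)))))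
    (hne : ∀ e : X₁ ≅ X₂, e.hom ≫ p₂ = p₁ → g₁ ≫ e.hom ≠ g₂) :
    ∃ e : Models.specialFibre R X p ≅ CohB1.ProjSpace 1 (ResidueField R),
      e.hom ≫ CohB1.ProjSpace.toSpec 1 (ResidueField R) =
        pullback.snd p (Spec.map (CommRingCat.ofHom (algebraMap R (ResidueField R)))) := by
  obtain ⟨⟨⟨-, -, -, g, hg⟩, -, -⟩, -⟩ := id hX
  haveI : IsIntegral C := hC.2.2.1
  have hS := Unique.isSurf_of_model hC hH0 hX.1 hg
  have hS₁ := Unique.isSurf_of_model hC hH0 h₁.1 hg₁
  have hS₂ := Unique.isSurf_of_model hC hH0 h₂.1 hg₂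
  refine exists_iso_projectiveLine hC hH0 hX hgen ?_
  rcases Unique.exists_hom_or hC hH0 hS hS₁ hX.2 with ⟨a, ha, hag⟩ | hpt
  swap
  · exact hpt.1
  rcases Unique.exists_hom_or hC hH0 hS hS₂ hX.2 with ⟨b, hb, hbg⟩ | hpt
  swap
  · exact hpt.1
  haveI := isIso_of_hom hS hS₁ h₁.2 a ha hag
  haveI := isIso_of_hom hS hS₂ h₂.2 b hb hbg
  refine absurd ?_ (hne ((asIso a) ≪≫ (asIso b).symm) ?_)
  · show g₁ ≫ a ≫ inv b = g₂
    rw [← Category.assoc, hag, ← hbg, Category.assoc, IsIso.hom_inv_id, Category.comp_id]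
  · show (a ≫ inv b) ≫ p₂ = p₁
    rw [Category.assoc, ← hb, IsIso.inv_hom_id_assoc, ha]

end Groth.CurveExtend.GenusZero
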