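import Mathlib.AlgebraicGeometry.Noetherian
import Groth.Agent.PropsBasic.IntegralImage

/-!
# The closure of the graph of a birational correspondence
-/

set_option autoImplicit false
set_option backward.isDefEq.respectTransparency.types false

universe u

open CategoryTheory CategoryTheory.Limits AlgebraicGeometry

noncomputable section

namespace Groth.CurveExtend

/-- The closure of the graph: proper over both sides and isomorphic to them over the common open. -/
theorem exists_graph {S X Y Z : Scheme.{u}} (f : X ⟶ S) (g : Y ⟶ S) [IsProper f] [IsProper g]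
    [IsLocallyNoetherian S] [CompactSpace S] (a : Z ⟶ X) (a' : Z ⟶ Y)
    [IsOpenImmersion a] [IsOpenImmersion a'] [IsIntegral Z] (h : a ≫ f = a' ≫ g) :
    ∃ (Γ : Scheme.{u}) (p : Γ ⟶ X) (q : Γ ⟶ Y) (hpq : p ≫ f = q ≫ g) (j : Z ⟶ Γ),
      IsIntegral Γ ∧ AlgebraicGeometry.IsNoetherian Γ ∧ IsProper p ∧ IsProper q ∧
      IsClosedImmersion (pullback.lift p q hpq) ∧ IsIso (p ∣_ a.opensRange) ∧
      IsIso (q ∣_ a'.opensRange) ∧ j ≫ p = a ∧ j ≫ q = a' := by
  haveI : IsLocallyNoetherian X := LocallyOfFiniteType.isLocallyNoetherian f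
  haveI : CompactSpace X := QuasiCompact.compactSpace_of_compactSpace f
  haveI : AlgebraicGeometry.IsNoetherian X := {}
  let j := pullback.lift a a' h
  haveI : IsImmersion j := by
    haveI : IsImmersion (j ≫ pullback.fst f g) := by rw [pullback.lift_fst]; infer_instance
    exact IsImmersion.of_comp j (pullback.fst f g)
  haveI : IsLocallyNoetherian (pullback f g) :=
    LocallyOfFiniteType.isLocallyNoetherian (pullback.fst f g)
  haveI : CompactSpace ↥(pullback f g) := QuasiCompact.compactSpace_of_compactSpace (pullback.fst f g)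
  haveI : QuasiCompact j := by
    haveI : QuasiCompact (j ≫ pullback.fst f g) := by rw [pullback.lift_fst]; infer_instance
    exact QuasiCompact.of_comp j (pullback.fst f g)
  haveI : IsIntegral j.image := Groth.PropsBasic.isIntegral_image j
  haveI : IsLocallyNoetherian j.image := LocallyOfFiniteType.isLocallyNoetherian j.imageι
  haveI : CompactSpace j.image := QuasiCompact.compactSpace_of_compactSpace j.imageι
  haveI : IsNoetherian j.image := {}
  let p := j.imageι ≫ pullback.fst f g
  let q := j.imageι ≫ pullback.snd f g
  have hpq : p ≫ f = q ≫ g := by simp [p, q, pullback.condition]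
  haveI : IsClosedImmersion (pullback.lift p q hpq) := by
    have e : pullback.lift p q hpq = j.imageι := by
      apply pullback.hom_ext
      · exact pullback.lift_fst _ _ _
      · exact pullback.lift_snd _ _ _
    rw [e]
    infer_instance
  -- over the generic point the graph is the graph
  have hp : j.toImage ≫ p = a := (j.toImage_imageι_assoc _).trans (pullback.lift_fst _ _ _)
  have hq : j.toImage ≫ q = a' := (j.toImage_imageι_assoc _).trans (pullback.lift_snd _ _ _)
  have hW : ∀ {X' : Scheme.{u}} (r : pullback f g ⟶ X') (c : Z ⟶ X') [IsOpenImmersion c] [IsSeparated r]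
      (hjr : j ≫ r = c),
      IsIso ((j.imageι ≫ r) ∣_ c.opensRange) := by
    intro X' r c _ _ hjr
    let U := r ⁻¹ᵁ c.opensRange
    have hjU : Set.range j ⊆ U := by
      rintro _ ⟨z, rfl⟩
      show r (j z) ∈ c.opensRange
      rw [← Scheme.Hom.comp_apply, hjr]
      exact ⟨z, rfl⟩
    let jU := IsOpenImmersion.lift U.ι j (by simpa using hjU)
    have hjU' : jU ≫ U.ι = j := IsOpenImmersion.lift_fac _ _ _
    have hsec : jU ≫ (r ∣_ c.opensRange) = c.isoOpensRange.hom := by
      rw [← cancel_mono c.opensRange.ι, Category.assoc, morphismRestrict_ι, ← Category.assoc, hjU', hjr,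
        Scheme.Hom.isoOpensRange_hom_ι]
    haveI : IsClosedImmersion (jU ≫ (r ∣_ c.opensRange)) := by rw [hsec]; infer_instance
    haveI : IsSeparated (r ∣_ c.opensRange) := IsZariskiLocalAtTarget.restrict ‹IsSeparated r› _
    haveI : IsClosedImmersion jU := IsClosedImmersion.of_comp jU (r ∣_ c.opensRange)
    -- the image meets `U` in the range of `j`
    have hrange : Set.range j.toImage = ((j.imageι ≫ r) ⁻¹ᵁ c.opensRange : Set j.image) := by
      apply subset_antisymm
      · rintro _ ⟨z, rfl⟩
        show j.imageι (j.toImage z) ∈ U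
        rw [← Scheme.Hom.comp_apply, j.toImage_imageι]
        exact hjU ⟨z, rfl⟩
      · intro w hw
        have hcl : j.imageι w ∈ closure (Set.range j) := by
          have h1 := (j.toImage.denseRange w)
          have h2 := map_mem_closure j.imageι.continuous h1 (t := Set.range j) (by
            rintro _ ⟨z, rfl⟩
            exact ⟨z, by rw [← Scheme.Hom.comp_apply, j.toImage_imageι]⟩)
          exact h2
        have hUr : U.ι ⁻¹' Set.range j = Set.range jU := by
          rw [← hjU', Scheme.Hom.comp_base, TopCat.coe_comp, Set.range_comp,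
            Set.preimage_image_eq _ U.ι.isEmbedding.injective]
        have h3 : (⟨j.imageι w, hw⟩ : U) ∈ closure (U.ι ⁻¹' Set.range j) := by
          rw [← U.ι.isOpenEmbedding.isOpenMap.preimage_closure_eq_closure_preimage U.ι.continuous]
          exact hcl
        rw [hUr, jU.isClosedEmbedding.isClosed_range.closure_eq] at h3
        obtain ⟨z, hz⟩ := h3
        refine ⟨z, j.imageι.isEmbedding.injective ?_⟩
        rw [← Scheme.Hom.comp_apply, j.toImage_imageι]
        refine (congrArg (fun m => m z) hjU').symm.trans ?_
        rw [Scheme.Hom.comp_apply, hz]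
        rfl
    let V := (j.imageι ≫ r) ⁻¹ᵁ c.opensRange
    let t := IsOpenImmersion.lift V.ι j.toImage (by rw [hrange, Scheme.Opens.range_ι])
    have htV : t ≫ V.ι = j.toImage := IsOpenImmersion.lift_fac _ _ _
    haveI : IsOpenImmersion (t ≫ V.ι) := by rw [htV]; infer_instance
    haveI : IsOpenImmersion t := IsOpenImmersion.of_comp t V.ι
    haveI : Surjective t := ⟨fun v => by
      obtain ⟨z, hz⟩ : V.ι v ∈ Set.range j.toImage := by rw [hrange]; exact v.2
      refine ⟨z, V.ι.isEmbedding.injective ?_⟩
      rw [← Scheme.Hom.comp_apply, htV, hz]⟩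
    haveI : IsIso t := (isIso_iff_isOpenImmersion_and_surjective t).2 ⟨inferInstance, inferInstance⟩
    have ht : t ≫ ((j.imageι ≫ r) ∣_ c.opensRange) = c.isoOpensRange.hom := by
      rw [← cancel_mono c.opensRange.ι, Category.assoc, morphismRestrict_ι, ← Category.assoc, htV,
        ← Category.assoc, j.toImage_imageι, hjr, Scheme.Hom.isoOpensRange_hom_ι]
    haveI : IsIso (t ≫ ((j.imageι ≫ r) ∣_ c.opensRange)) := by rw [ht]; infer_instance
    exact IsIso.of_isIso_comp_left t _
  haveI : IsIso (p ∣_ a.opensRange) := hW (pullback.fst f g) a (pullback.lift_fst _ _ _)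
  haveI : IsIso (q ∣_ a'.opensRange) :=
    hW (pullback.snd f g) a' (pullback.lift_snd _ _ _)
  exact ⟨j.image, p, q, hpq, j.toImage, inferInstance, inferInstance, inferInstance, inferInstance,
    inferInstance, inferInstance, inferInstance, hp, hq⟩

end Groth.CurveExtend
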