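import Groth.Agent.CurveExtend.Main
import Groth.Agent.CurveExtend.Graph
import Groth.Agent.CurveExtend.Centre
import Groth.Agent.ArSurfBasics.ExcContracted
import Groth.Agent.ArSurfBasics.CompList
import Groth.Agent.ModelsGraphs.GlobalFunctions
import Groth.Agent.ModelsGraphs.ArithDim
import Groth.Agent.ModelsGraphs.TransversalDivisor
import Groth.Agent.ModelsGraphs.GenusFormula
import Groth.Agent.Misc3Stein.Connected
import Groth.Agent.Curves1.RR.Descend
import Groth.Agent.S3322
import Groth.Agent.S3347
import Groth.Agent.S2190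
import Groth.Agent.S4932
import Groth.Agent.S7613

/-!
# Good reduction makes the minimal model smooth
-/

set_option autoImplicit false
set_option backward.isDefEq.respectTransparency.types false
set_option maxHeartbeats 1000000
set_option linter.style.haveILetI false

universe u

open CategoryTheory CategoryTheory.Limits AlgebraicGeometry TopologicalSpace IsLocalRing
open scoped Groth.CurveBridge

noncomputable section

namespace Groth.CurveExtend.Minimal

variable {R : Type u} [CommRing R] [IsDomain R] [IsDiscreteValuationRing R]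

/-- An exceptional curve contracted to a point over `R` is a vertical prime divisor. -/
theorem exists_vertComp {X Y : Over (Spec (CommRingCat.of R))} [IsIntegral X.left] [Flat X.hom]
    [IsProper X.hom] [IsProper Y.hom] (hd : topologicalKrullDim X.left = 2)
    (f : X ⟶ Y) {E : Scheme.{u}} (ι : E ⟶ X.left) [IsClosedImmersion ι] (hE : Models.IsExcCurve ι)
    {y : Y.left} (hy : Set.range ((ι ≫ f.left).base : E → Y.left) = {y}) :
    IsClosed ({y} : Set Y.left) ∧ ∃ Γ : ArSurf.VertComp R X,
      Set.range (Γ.ι.base : Γ.curve.left → X.left) = Set.range ι.base ∧ Models.IsExcCurve Γ.ι := by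
  haveI : IsProper (f.left ≫ Y.hom) := by rw [Over.w f]; infer_instance
  haveI : IsProper f.left := IsProper.of_comp f.left Y.hom
  have hyc : IsClosed ({y} : Set Y.left) := hy ▸ (ι ≫ f.left).isClosedMap.isClosed_range
  refine ⟨hyc, ?_⟩
  obtain ⟨hEi, a, c, hac⟩ := Groth.ArSurfBasics.ExcContracted.isIntegral_of_isExcCurve hE
  haveI := hEi
  have hye : ∀ e, f.left (ι e) = y := fun e => by
    have : (ι ≫ f.left) e ∈ ({y} : Set Y.left) := hy ▸ ⟨e, rfl⟩
    exact this
  have hys : Y.hom y = IsLocalRing.closedPoint R := by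
    have h1 : IsClosed ({Y.hom y} : Set (Spec (CommRingCat.of R))) := by
      simpa using Y.hom.isClosedMap _ hyc
    have h2 := (PrimeSpectrum.isClosed_singleton_iff_isMaximal (Y.hom y : PrimeSpectrum R)).1 h1
    exact PrimeSpectrum.ext (IsLocalRing.eq_maximalIdeal h2)
  have hS : Set.range ι.base ⊆ Models.specialFibreSet R X := by
    rintro _ ⟨e, rfl⟩
    show X.hom (ι e) = _
    rw [← Over.w f, Scheme.Hom.comp_apply, hye, hys]
  obtain ⟨c', hc', hcg⟩ : ∃ c' : E, c' ≠ genericPoint E ∧ genericPoint E ⤳ c' := by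
    by_cases h : a = genericPoint E
    · exact ⟨c, fun e => hac (h.trans e.symm), genericPoint_specializes _⟩
    · exact ⟨a, h, genericPoint_specializes _⟩
  have hZ : Set.range ι.base ∈ Models.fibreComponents R X := by
    refine ⟨⟨?_, hS⟩, fun T hT hle t ht => ?_⟩
    · rw [← Set.image_univ]
      exact (IrreducibleSpace.isIrreducible_univ E).image _ ι.continuous.continuousOn
    · obtain ⟨g, hg⟩ := QuasiSober.sober hT.1.closure isClosed_closure
      have hgS : g ∈ Models.specialFibreSet R X :=
        closure_minimal hT.2 (Models.isClosed_specialFibreSet R X) hg.mem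
      have h1 : g ⤳ ι (genericPoint E) := hg.specializes (subset_closure (hle ⟨_, rfl⟩))
      have hge : g = ι (genericPoint E) := by
        by_contra hne
        exact Groth.ArSurfBasics.no_chain_in_fibre hd hgS h1 hne (hcg.map ι.continuous)
          (fun e => hc' (ι.isClosedEmbedding.injective e).symm)
      have h2 : g ⤳ t := hg.specializes (subset_closure ht)
      rw [hge] at h2
      exact h2.mem_closed ι.isClosedEmbedding.isClosed_range ⟨_, rfl⟩
  obtain ⟨Γ, hΓ⟩ := Groth.ArSurfBasics.exists_vertComp hd hZ ⟨a, rfl⟩ ⟨c, rfl⟩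
    (fun e => hac (ι.isClosedEmbedding.injective e))
  haveI := Γ.isIntegral
  have hk : Γ.ι.ker = ι.ker := by
    rw [Groth.AlgSp3.ker_eq_vanishingIdeal_of_isReduced, Groth.AlgSp3.ker_eq_vanishingIdeal_of_isReduced]
    exact congrArg Scheme.IdealSheafData.vanishingIdeal
      (TopologicalSpace.Closeds.ext (congrArg closure hΓ))
  refine ⟨Γ, hΓ, ?_⟩
  obtain ⟨hC, k, hk', φ, ⟨t⟩⟩ := hE
  let u := IsClosedImmersion.lift Γ.ι ι hk.le
  haveI : IsIso u := IsClosedImmersion.isIso_lift Γ.ι ι hk
  have hu : u ≫ Γ.ι = ι := IsClosedImmersion.lift_fac _ _ _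
  refine ⟨hk ▸ hC, k, hk', φ ≪≫ asIso u, ⟨?_⟩⟩
  exact eqToIso (congrArg (fun J => (Scheme.Modules.pullback ((φ ≪≫ asIso u).hom ≫ Γ.ι)).obj (ClSub.idealMod J)) hk) ≪≫
    (Scheme.Modules.pullbackCongr (by rw [Iso.trans_hom, asIso_hom, Category.assoc, hu])).app _ ≪≫ t


/-- A birational morphism from a minimal surface to a regular one is an isomorphism. -/
theorem isIso_of_minimal {X X' : Scheme.{u}} {p : X ⟶ Spec (CommRingCat.of R)}
    {p' : X' ⟶ Spec (CommRingCat.of R)} [IsProper p] [Flat p] [IsProper p'] [IsIntegral X] [IsIntegral X']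
    (hX : Models.IsRegularScheme X) (hX' : Models.IsRegularScheme X')
    (hdX : topologicalKrullDim X = 2) (hdX' : topologicalKrullDim X' = 2)
    (hmin : ∀ Γ : ArSurf.VertComp R (Over.mk p), ¬ Models.IsExcCurve Γ.ι)
    (b : X ⟶ X') (hb : b ≫ p' = p) {V : X'.Opens} (hV : IsIso (b ∣_ V)) (hVne : (V : Set X').Nonempty) :
    IsIso b := by
  haveI : IsProper (b ≫ p') := by rw [hb]; infer_instance
  haveI : IsProper b := IsProper.of_comp b p'
  haveI : IsLocallyNoetherian X := LocallyOfFiniteType.isLocallyNoetherian p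
  haveI : CompactSpace X := QuasiCompact.compactSpace_of_compactSpace p
  haveI : IsLocallyNoetherian X' := LocallyOfFiniteType.isLocallyNoetherian p'
  haveI : CompactSpace X' := QuasiCompact.compactSpace_of_compactSpace p'
  haveI : AlgebraicGeometry.IsNoetherian X := {}
  haveI : AlgebraicGeometry.IsNoetherian X' := {}
  have hs : Models.IsContractionSeq b :=
    Groth.ArSurfBasics.Factorization.isContractionSeq b hX hdX hdX' hV hVne hX'
  cases hs with
  | iso e => infer_instance
  | step ι c r hι hE hc hr =>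
    exfalso
    obtain ⟨-, -, z, -, hz, -⟩ := hc
    haveI : IsIntegral (Over.mk p).left := ‹IsIntegral X›
    haveI : Flat (Over.mk p).hom := ‹Flat p›
    haveI : IsProper (Over.mk p).hom := ‹IsProper p›
    haveI : IsProper (Over.mk p').hom := ‹IsProper p'›
    have hy : Set.range ((ι ≫ c ≫ r).base : _ → X') = {r z} := by
      rw [← Category.assoc, Scheme.Hom.comp_base, TopCat.coe_comp, Set.range_comp]
      exact (congrArg (r.base '' ·) hz).trans Set.image_singleton
    obtain ⟨-, Γ, -, hΓ⟩ := exists_vertComp (X := Over.mk p) (Y := Over.mk p') hdX (Over.homMk (c ≫ r) hb)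
      ι hE hy
    exact hmin Γ hΓ

section Generic

variable {C X : Scheme.{u}} {f : C ⟶ Spec (CommRingCat.of (FractionRing R))}
  {p : X ⟶ Spec (CommRingCat.of R)} {g : C ⟶ X}

instance isOpenImmersion_generic :
    IsOpenImmersion (Spec.map (CommRingCat.ofHom (algebraMap R (FractionRing R)))) := by
  obtain ⟨π, hπ⟩ := IsDiscreteValuationRing.exists_irreducible R
  haveI := isLocalization_away_uniformizer hπ (FractionRing R)
  exact IsOpenImmersion.of_isLocalization π

theorem isOpenImmersion_left (hg : IsPullback g f p (Spec.map (CommRingCat.ofHom (algebraMap R (FractionRing R))))) :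
    IsOpenImmersion g :=
  MorphismProperty.of_isPullback hg.flip inferInstance

theorem range_left (hg : IsPullback g f p (Spec.map (CommRingCat.ofHom (algebraMap R (FractionRing R))))) :
    Set.range g = p ⁻¹' {(⟨⊥, Ideal.isPrime_bot⟩ : PrimeSpectrum R)} := by
  ext x
  constructor
  · rintro ⟨c, rfl⟩
    rw [← range_generic (K := FractionRing R), Set.mem_preimage, ← Scheme.Hom.comp_apply, hg.w,
      Scheme.Hom.comp_apply]
    exact ⟨_, rfl⟩
  · intro hx
    rw [Set.mem_preimage, ← range_generic (K := FractionRing R)] at hx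
    obtain ⟨k, hk⟩ := hx
    obtain ⟨c, hc, -⟩ := Scheme.exists_preimage_of_isPullback hg x k hk.symm
    exact ⟨c, hc⟩

/-- A proper flat model of a curve with constant functions has geometrically connected fibres. -/
theorem geometricallyConnected [IsProper p] [Flat p]
    (hg : IsPullback g f p (Spec.map (CommRingCat.ofHom (algebraMap R (FractionRing R))))) (hH0 : IsIso f.appTop) :
    GeometricallyConnected p := by
  haveI : CompactSpace X := QuasiCompact.compactSpace_of_compactSpace p
  haveI : QuasiSeparatedSpace X := quasiSeparatedSpace_of_quasiSeparated p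
  have h := Groth.ModelsGraphs.GlobalFun.toGlobal_bijective_of_appTop p g f
    (ConcreteCategory.bijective_of_isIso _) hg
  haveI : IsIso p.appTop := by
    refine (ConcreteCategory.isIso_iff_bijective _).2 ?_
    have e : (fun a => p.appTop a) = Coh.toGlobal p ∘ (Scheme.ΓSpecIso (CommRingCat.of R)).hom := by
      funext a
      change p.appTop a = p.appTop _
      erw [congr($((Scheme.ΓSpecIso (CommRingCat.of R)).hom_inv_id) a)]
      rfl
    change Function.Bijective (fun a => p.appTop a)
    rw [e]
    exact h.comp (ConcreteCategory.bijective_of_isIso _)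
  refine Misc3Stein.geometricallyConnected_of_isIso_app p fun U hU => ?_
  have H : IsPullback (𝟙 X) p p (𝟙 (Spec (CommRingCat.of R))) := IsPullback.of_id_fst
  haveI : IsIso (p.appLE ⊤ ⊤ le_top) := by simpa [Scheme.Hom.appLE] using (inferInstance : IsIso p.appTop)
  haveI := isIso_pushoutSection_of_isQuasiSeparated_of_flat_right H (US := ⊤) (UT := U) (UX := ⊤)
    le_top le_top (UY := p ⁻¹ᵁ U) (by simp) (isAffineOpen_top _) hU isCompact_univ isQuasiSeparated_univ
  have hpo := (isIso_pushoutSection_iff H (US := ⊤) (UT := U) (UX := ⊤) le_top le_top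
    (UY := p ⁻¹ᵁ U) (by simp)).1 this
  have := hpo.isIso_inr_of_isIso
  simpa [Scheme.Hom.appLE] using this

/-- If the generic fibre is smooth and so is the special fibre, the model is smooth. -/
theorem smooth_of_fibres [LocallyOfFiniteType p] [Flat p] [Smooth f]
    (hg : IsPullback g f p (Spec.map (CommRingCat.ofHom (algebraMap R (FractionRing R)))))
    (hs : Smooth (p.fiberToSpecResidueField (cpt R))) : Smooth p := by
  haveI : LocallyOfFinitePresentation p := by
    haveI := LocallyOfFiniteType.isLocallyNoetherian p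
    infer_instance
  refine Smooth.of_smooth_fiberToSpecResidueField p fun b => ?_
  rcases eq_cpt_or_bot b with rfl | rfl
  · exact hs
  let τ := (Spec (CommRingCat.of R)).fromSpecResidueField (⟨⊥, Ideal.isPrime_bot⟩ : PrimeSpectrum R)
  let σ := Spec.map (CommRingCat.ofHom (algebraMap R (FractionRing R)))
  have hr : Set.range τ ⊆ Set.range σ := by
    rw [Scheme.range_fromSpecResidueField, range_generic]
    exact Set.Subset.refl _
  let l := IsOpenImmersion.lift σ τ hr
  have hl : l ≫ σ = τ := IsOpenImmersion.lift_fac _ _ _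
  let m : p.fiber (⟨⊥, Ideal.isPrime_bot⟩ : PrimeSpectrum R) ⟶ C :=
    hg.lift (p.fiberι _) (p.fiberToSpecResidueField _ ≫ l) (by rw [Category.assoc, hl]; exact pullback.condition)
  have hsq : IsPullback m (p.fiberToSpecResidueField _) f l := by
    refine IsPullback.of_right ?_ (hg.lift_snd _ _ _) hg
    rw [hg.lift_fst, hl]
    exact IsPullback.of_hasPullback _ _
  exact MorphismProperty.of_isPullback hsq ‹Smooth f›

/-- Global constants of the generic fibre. -/
theorem h0_generic (hH0 : IsIso f.appTop) :
    Models.hRank (FractionRing R) C f (Coh.structureModule C) 0 = 1 := by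
  letI : C.Over (Spec (CommRingCat.of (FractionRing R))) := ⟨f⟩
  letI := (Groth.ModelsGraphs.DVRFibre.gl f).toAlgebra
  let eS := Groth.CohFin.equivSections f (Coh.structureModule C)
  let sec : Coh.HH C (Coh.structureModule C) 0 ≃ₗ[FractionRing R] Γ(C, ⊤) :=
    { toFun := fun x => (eS x : Γ(Coh.structureModule C, ⊤))
      invFun := fun s => eS.symm (s : Γ(Coh.structureModule C, ⊤))
      left_inv := eS.symm_apply_apply
      right_inv := eS.apply_symm_apply
      map_add' := eS.map_add
      map_smul' := fun r x => Groth.CohFin.equivSections_smul f (Coh.structureModule C) r x }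
  have hb : Function.Bijective (Algebra.linearMap (FractionRing R) Γ(C, ⊤)) :=
    (ConcreteCategory.bijective_of_isIso f.appTop).comp
      (ConcreteCategory.bijective_of_isIso (Scheme.ΓSpecIso (CommRingCat.of (FractionRing R))).inv)
  show Module.finrank _ _ = 1
  rw [sec.finrank_eq, ← (LinearEquiv.ofBijective _ hb).finrank_eq, Module.finrank_self]

/-- The genus is the same on both fibres when the special one has only constant functions. -/
theorem genus_fib [IsProper p] [Flat p] [IsProper f]
    (hg : IsPullback g f p (Spec.map (CommRingCat.ofHom (algebraMap R (FractionRing R))))) (hH0 : IsIso f.appTop)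
    (hdC : topologicalKrullDim C ≤ 1) (hdF : topologicalKrullDim ↥(Fib p) ≤ 1)
    (h0 : Module.finrank (kf R) (Coh.HH (Fib p) (Coh.structureModule (Fib p)) 0) = 1) :
    Models.curveGenus (FractionRing R) C f = Curv2.genus (kf R) (Fib p) := by
  letI : C.Over (Spec (CommRingCat.of (FractionRing R))) := ⟨f⟩
  haveI : IsProper (C ↘ Spec (CommRingCat.of (FractionRing R))) := inferInstanceAs (IsProper f)
  haveI : IsProper (Fib p ↘ Spec (CommRingCat.of (kf R))) := inferInstanceAs (IsProper (pullback.snd _ _))
  haveI : (Coh.structureModule X).IsQuasicoherent := Groth.QCohMod.isQCoh_unit X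
  haveI : PreconnectedSpace (Spec (CommRingCat.of R)) := inferInstance
  haveI : IsLocallyNoetherian X := LocallyOfFiniteType.isLocallyNoetherian p
  have h1 := Groth.Inter.euler_point_eq p (Coh.structureModule X) (FractionRing R)
    (Spec.map (CommRingCat.ofHom (algebraMap R (FractionRing R)))) g hg
  have h2 := Groth.Inter.euler_point_eq p (Coh.structureModule X) (kf R)
    ((Spec (CommRingCat.of R)).fromSpecResidueField (cpt R)) (p.fiberι (cpt R))
    (IsPullback.of_hasPullback p _)
  rw [Groth.EulerDeg.euler_congr _ (Groth.PicAux.pullback_structure_iso g).some] at h1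
  rw [Groth.EulerDeg.euler_congr _ (Groth.PicAux.pullback_structure_iso (p.fiberι (cpt R))).some] at h2
  have h := h1.trans ((Groth.Inter.euler_fiber_eq p _
    (Groth.EulerDeg.isCoh_of_isInvertible (Groth.EulerDeg.isInvertible_structureModule _))
    (Groth.FBaseGeom.isFlatOver_structureModule p) _ _).trans h2.symm)
  rw [Groth.EulerDeg.euler_eq_h0_sub_h1 _ C hdC, Groth.EulerDeg.euler_eq_h0_sub_h1 _ (Fib p) hdF,
    show Module.finrank (FractionRing R) (Coh.HH C (Coh.structureModule C) 0) = 1 from h0_generic hH0,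
    h0] at h
  show Module.finrank (FractionRing R) (Coh.HH C (Coh.structureModule C) 1) =
    Module.finrank (kf R) (Coh.HH (Fib p) (Coh.structureModule (Fib p)) 1)
  exact Int.ofNat_inj.1 (by linarith)

/-- Both fibres of an integral model have the dimension of the curve. -/
theorem dim_fib [IsProper p] [IsIntegral X] [Nonempty C]
    (hg : IsPullback g f p (Spec.map (CommRingCat.ofHom (algebraMap R (FractionRing R))))) :
    topologicalKrullDim ↥(Fib p) = topologicalKrullDim C := by
  haveI := isOpenImmersion_left hg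
  let η : ↥(Spec (CommRingCat.of R)) := (⟨⊥, Ideal.isPrime_bot⟩ : PrimeSpectrum R)
  obtain ⟨c⟩ := ‹Nonempty C›
  have hc : p (g c) = η := by
    have h : g c ∈ Set.range g := ⟨c, rfl⟩
    rw [range_left hg] at h
    exact h
  have hgs : ∀ s, η ⤳ s := fun s => (PrimeSpectrum.le_iff_specializes _ _).1 bot_le
  haveI : IsDominant p := ⟨fun s => by
    have hsub : ({η} : Set ↥(Spec (CommRingCat.of R))) ⊆ Set.range p :=
      Set.singleton_subset_iff.2 (hc ▸ Set.mem_range_self (g c))
    exact closure_mono hsub (hgs s).mem_closure⟩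
  have hne : Nonempty ↥(p.fiber (cpt R)) := by
    obtain ⟨x, hx⟩ := (hgs (cpt R)).mem_closed p.isClosedMap.isClosed_range ⟨g c, hc⟩
    obtain ⟨z, -⟩ : x ∈ Set.range (p.fiberι (cpt R)) := by rw [Scheme.Hom.range_fiberι]; exact hx
    exact ⟨z⟩
  have hη : genericPoint ↥(Spec (CommRingCat.of R)) = η := by
    rw [genericPoint_eq_bot_of_affine]
    rfl
  refine (Groth.Agent.S4932.result p hne).trans ?_
  rw [hη]
  exact ((p.fiberHomeo η).trans ((Homeomorph.setCongr (range_left hg)).symm.trans
    g.isEmbedding.toHomeomorph.symm)).isHomeomorph.topologicalKrullDim_eq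

/-- An integral proper model is a surface. -/
theorem dim_eq_two [IsProper p] [IsIntegral X] [Nonempty C]
    (hg : IsPullback g f p (Spec.map (CommRingCat.ofHom (algebraMap R (FractionRing R)))))
    (hC : topologicalKrullDim C = 1) : topologicalKrullDim X = 2 := by
  haveI : IsIntegral (Over.mk p).left := ‹IsIntegral X›
  haveI : LocallyOfFiniteType (Over.mk p).hom := inferInstanceAs (LocallyOfFiniteType p)
  refine le_antisymm (Groth.ModelsGraphs.ArithDim.dim_le_two (X := Over.mk p) f g hg hC.le) ?_
  have hF : Order.krullDim ↥(Fib p) = 1 := by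
    rw [show Order.krullDim ↥(Fib p) = topologicalKrullDim ↥(Fib p) from
      (Order.krullDim_eq_of_orderIso irreducibleSetEquivPoints).symm, dim_fib hg, hC]
  obtain ⟨z, w, hzw⟩ : ∃ z w : Fib p, z < w := by
    by_contra hno
    push Not at hno
    have : Order.krullDim ↥(Fib p) ≤ 0 := iSup_le fun s => by
      rcases s with ⟨k, fn, hstep⟩
      rcases k with _ | k
      · exact le_rfl
      · exact absurd (hstep 0) (hno _ _)
    rw [hF] at this
    exact absurd this (by norm_num)
  let i := p.fiberι (cpt R)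
  have hsp : ∀ z : Fib p, p (i z) = cpt R := fun z => by
    have h : i z ∈ p ⁻¹' {cpt R} := by rw [← Scheme.Hom.range_fiberι]; exact ⟨_, rfl⟩
    exact h
  have h12 : i w ⤳ i z := (hzw.le : w ⤳ z).map i.continuous
  have l1 : i z < i w := lt_of_le_not_ge h12 fun h => hzw.ne
    (i.isEmbedding.injective (Specializes.antisymm (h : i z ⤳ i w) h12).eq)
  have h1 : genericPoint X ≠ i w := fun e => by
    obtain ⟨c⟩ := ‹Nonempty C›
    have hc : g c ∈ Set.range g := ⟨c, rfl⟩
    rw [range_left hg, Set.mem_preimage] at hc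
    have h3 := (genericPoint_specializes (g c)).map p.continuous
    rw [e, hsp, hc] at h3
    have hle : maximalIdeal R ≤ ⊥ := (PrimeSpectrum.le_iff_specializes _ _).2 h3
    exact IsDiscreteValuationRing.not_a_field R (le_bot_iff.1 hle)
  have h2 : genericPoint X ⤳ i w := genericPoint_specializes _
  have l2 : i w < genericPoint X := lt_of_le_not_ge h2 fun h => h1 (Specializes.antisymm h2 h).eq
  let s : LTSeries X := ((RelSeries.singleton _ (i z)).snoc (i w) l1).snoc (genericPoint X) (by simpa using l2)
  have h3 : ((2 : ℕ) : WithBot ℕ∞) ≤ Order.krullDim X := Order.LTSeries.length_le_krullDim s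
  rwa [show Order.krullDim X = topologicalKrullDim X from
    (Order.krullDim_eq_of_orderIso irreducibleSetEquivPoints).symm] at h3

end Generic

section Smooth

variable {C X' : Scheme.{u}} (f' : X' ⟶ Spec (CommRingCat.of R)) [IsProper f'] [Smooth f']
  [GeometricallyConnected f']

variable {X : Scheme.{u}} {p : X ⟶ Spec (CommRingCat.of R)} [IsProper p] [IsIntegral X]

/-- If the special valuation of a smooth model has no closed centre on a minimal model, the latter
is smooth. -/
theorem smooth_of_noCentre [Flat p] (hdim : topologicalKrullDim ↥(Fib f') = 1)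
    (hX : Models.IsRegularScheme X) (hdX : topologicalKrullDim X ≤ 2) (hdX' : topologicalKrullDim X' = 2)
    (hmin : ∀ Γ : ArSurf.VertComp R (Over.mk p), ¬ Models.IsExcCurve Γ.ι)
    {a : C ⟶ X} {a' : C ⟶ X'} [IsOpenImmersion a] [IsOpenImmersion a'] [IsIntegral C]
    (h : a ≫ p = a' ≫ f') (ha : Set.range a = p ⁻¹' {(⟨⊥, Ideal.isPrime_bot⟩ : PrimeSpectrum R)})
    (hno : ∀ y : X, p y = cpt R → IsClosed ({y} : Set X) →
      ∀ ψ : X.presheaf.stalk y →+* X'.presheaf.stalk (xi f'), IsLocalHom ψ →
        (∀ c : R, ψ (toStalk p y c) = toStalk f' (xi f') c) →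
        (∀ w : X'.presheaf.stalk (xi f'), ∃ b c, ψ c ≠ 0 ∧ w * ψ c = ψ b) → False) :
    Smooth p := by
  haveI := CurveExtend.isIntegral f'
  obtain ⟨Γ, pΓ, qΓ, hpq, j, _, _, _, _, _, hpW, hqV, -, -⟩ := exists_graph p f' a a' h
  haveI := hpW
  haveI := hqV
  have hW : (a.opensRange : Set X).Nonempty := ⟨a (genericPoint C), ⟨_, rfl⟩⟩
  have hV : (a'.opensRange : Set X').Nonempty := ⟨a' (genericPoint C), ⟨_, rfl⟩⟩
  have hiso : IsIso pΓ := by
    refine Groth.ArSurfBasics.isIso_of_forall_nhd pΓ fun x => ?_
    by_cases hxW : x ∈ a.opensRange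
    · exact ⟨_, hxW, hpW⟩
    have hx : p x = cpt R := (eq_cpt_or_bot (p x)).resolve_right fun hb => hxW (ha.ge hb)
    obtain ⟨γ₀, hγ₀⟩ : x ∈ Set.range pΓ := by
      have hgen := Groth.VarietyBC.base_genericPoint_of_isIso pΓ hW
      exact (genericPoint_specializes x).mem_closed pΓ.isClosedMap.isClosed_range ⟨_, hgen⟩
    haveI := Groth.ArSurfBasics.Factorization.isIntegrallyClosed_stalk hX x
    refine Groth.VarietyBC.exists_isIso_of_quasiFiniteAt pΓ hW x γ₀ hγ₀ ?_
    by_cases hdx : ringKrullDim (X.presheaf.stalk x) < 2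
    · obtain ⟨hfgen, hgW⟩ := Groth.ArSurfBasics.Factorization.apply_genericPoint pΓ hpW hW
      have hdom : pΓ.base (genericPoint Γ) ⤳ genericPoint X := by rw [hfgen]
      have hσ := Groth.HensPair.bijective_stalkToFunctionField_of_mem pΓ hdom hpW (by rw [hfgen]; exact hgW)
      subst hγ₀
      haveI : IsLocallyNoetherian X := LocallyOfFiniteType.isLocallyNoetherian p
      exact Groth.HensPair.quasiFiniteAt_of_valuationRing pΓ hdom hσ.2 γ₀
        (Groth.HensPair.valuationRing_of_krullDim_lt_two hdx)
    · have hxc := Groth.ArSurfBasics.Factorization.isClosed_of_dim_two hdX (not_lt.1 hdx)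
      have hclosed : ∀ γ : Γ, pΓ γ = x → IsClosed ({qΓ γ} : Set X') := fun γ hγ => by
        subst hγ
        refine isClosed_of_ne_xi f' hdim ?_ fun hq => ?_
        · rw [← Scheme.Hom.comp_apply, ← hpq, Scheme.Hom.comp_apply, hx]
        · obtain ⟨ψ, hψ, -, hcomp, hfrac⟩ := exists_dominating hpq.symm hV hW γ hq
          exact hno _ hx hxc ψ hψ hcomp hfrac
      refine Groth.ArSurfBasics.quasiFiniteAt_of_isolated pΓ γ₀ fun z hz hrel => ?_
      rw [hγ₀] at hz
      have key : ∀ c d : Γ, pΓ c = x → pΓ d = x → c ⤳ d → c = d := fun c d hc hd hcd => by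
        refine eq_of_specializes hpq hx hxc hc hd hcd ?_
        exact ((hclosed c hc).closure_eq ▸ (hcd.map qΓ.continuous).mem_closure : qΓ d ∈ ({qΓ c} : Set X')).symm
      exact hrel.elim (fun h => key z γ₀ hz hγ₀ h) fun h => (key γ₀ z hγ₀ hz h).symm
  haveI := hiso
  let b := inv pΓ ≫ qΓ
  have hb : b ≫ f' = p := by rw [Category.assoc, ← hpq, IsIso.inv_hom_id_assoc]
  have hbV : IsIso (b ∣_ a'.opensRange) := by
    rw [morphismRestrict_comp]
    have h1 : IsIso (inv pΓ ∣_ qΓ ⁻¹ᵁ a'.opensRange) := by
      refine (MorphismProperty.isomorphisms Scheme.{u}).of_isPullback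
        (isPullback_morphismRestrict (inv pΓ) _).flip ?_
      exact (inferInstance : IsIso (inv pΓ))
    exact @IsIso.comp_isIso _ _ _ _ _ _ _ h1 hqV
  have hdX2 : topologicalKrullDim X = 2 := by
    refine le_antisymm hdX (hdX'.ge.trans ?_)
    haveI : IsProper (b ≫ f') := by rw [hb]; infer_instance
    haveI : IsProper b := IsProper.of_comp b f'
    have hgen := Groth.VarietyBC.base_genericPoint_of_isIso b hV
    exact Groth.Ega4Algebra1.topologicalKrullDim_le_of_specializing b b.isClosedMap.specializingMap fun z =>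
      (genericPoint_specializes z).mem_closed b.isClosedMap.isClosed_range ⟨_, hgen⟩
  haveI := isIso_of_minimal hX (fun z => regular f' z) hdX2 hdX' hmin b hb hbV hV
  rw [← hb]
  infer_instance

end Smooth

/-- A minimal model of a curve of genus zero with a rational point at which the special fibre is
regular is smooth. -/
theorem smooth_of_genus_zero {C X : Scheme.{u}} {f : C ⟶ Spec (CommRingCat.of (FractionRing R))}
    {p : X ⟶ Spec (CommRingCat.of R)} (hC : Curve.IsSmoothProperCurve (FractionRing R) C f)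
    (hH0 : IsIso f.appTop) (hX : Models.IsMinimalModel R X p C f) [IsIntegral X]
    (hdX : topologicalKrullDim X = 2) (hgen : Models.curveGenus (FractionRing R) C f = 0)
    {π : R} (hπ : Irreducible π) {y : X} (hy : p y = cpt R)
    (hπy : toStalk p y π ∉ maximalIdeal (X.presheaf.stalk y) ^ 2)
    (hres : ∀ a : X.presheaf.stalk y, ∃ c : R, a - toStalk p y c ∈ maximalIdeal (X.presheaf.stalk y)) :
    Smooth p := by
  classical
  obtain ⟨hX0, hmin⟩ := id hX
  obtain ⟨⟨hflat, hlft, hqc, g, hg⟩, hp, hreg⟩ := id hX0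
  haveI := hflat
  haveI := hp
  haveI : IsProper f := hC.1
  haveI : Smooth f := hC.2.1
  haveI : Flat (Over.mk p).hom := hflat
  haveI : IsProper (Over.mk p).hom := hp
  have hbij := Groth.ModelsGraphs.GlobalFun.toGlobal_bijective_of_appTop p g f
    (ConcreteCategory.bijective_of_isIso _) hg
  obtain ⟨n, Γs, hΓ⟩ := Groth.ArSurfBasics.CompList.exists_componentList (X := Over.mk p) hdX
    (Groth.ModelsGraphs.Connected.isPreconnected_closedFibre p hbij)
  obtain ⟨L, hL⟩ := Groth.ModelsGraphs.InterLattice.exists_inverses f p hX0 Γs hΓ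
  obtain ⟨T, hTm, hTa, hTw, hTg, hTgen⟩ := Groth.Agent.S3322.result R C X f p hC hH0 hX0 Γs hΓ L hL
  have hTmin : T.IsMinimal := fun i ⟨hi1, hi2⟩ => by
    refine (Groth.Agent.S3347.result R C X f p hC hH0 hX0 Γs hΓ L hL).1 hX i ⟨?_, ?_⟩
    · have := hTg i
      rw [hi1, mul_zero] at this
      exact_mod_cast this.symm
    · rw [← hTa i i, hi2, hTw]
  obtain ⟨rfl, hT⟩ := Groth.Agent.S2190.result T hTmin (by rw [hTgen, hgen]; rfl)
  have hm : Models.mult R (Over.mk p) (Γs 0) = 1 := by
    have h := hTm 0
    rw [(hT 0).1] at h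
    exact_mod_cast h.symm
  haveI : IsLocallyNoetherian (Over.mk p).left := LocallyOfFiniteType.isLocallyNoetherian p
  haveI : CompactSpace (Over.mk p).left := QuasiCompact.compactSpace_of_compactSpace p
  have hI : Models.specialFibreIdeal R (Over.mk p) = (Γs 0).ι.ker := by
    rw [Groth.ModelsGraphs.Inter.specialFibreIdeal_eq hreg hΓ, Fin.prod_univ_one, hm, pow_one]
  -- the special fibre is the component
  let τ := (Spec (CommRingCat.of R)).fromSpecResidueField (cpt R)
  haveI : IsClosedImmersion τ := isClosed_singleton_iff_isClosedImmersion.mp isClosed_cpt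
  let i := p.fiberι (cpt R)
  haveI : IsClosedImmersion i := MorphismProperty.pullback_fst _ _ inferInstance
  let σ := Spec.map (CommRingCat.ofHom (IsLocalRing.residue R))
  haveI : IsClosedImmersion σ := IsClosedImmersion.spec_of_surjective _ IsLocalRing.residue_surjective
  have hτσ : τ.ker = σ.ker := by
    rw [Groth.AlgSp3.ker_eq_vanishingIdeal_of_isReduced, Groth.AlgSp3.ker_eq_vanishingIdeal_of_isReduced]
    refine congrArg Scheme.IdealSheafData.vanishingIdeal (TopologicalSpace.Closeds.ext (congrArg closure ?_))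
    rw [Scheme.range_fromSpecResidueField]
    ext s
    constructor
    · rintro rfl
      exact ⟨closedPoint _, IsLocalRing.comap_closedPoint (IsLocalRing.residue R)⟩
    · rintro ⟨c, rfl⟩
      rw [Subsingleton.elim c (closedPoint _)]
      exact IsLocalRing.comap_closedPoint (IsLocalRing.residue R)
  have hker : i.ker = (Γs 0).ι.ker := by
    rw [← hI]
    show (pullback.fst p τ).ker = _
    rw [Scheme.IdealSheafData.ker_fst_of_isClosedImmersion, hτσ,
      Groth.ModelsGraphs.GenusFormula.ker_residue]
    rfl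
  let u := IsClosedImmersion.lift (Γs 0).ι i hker.ge
  haveI : IsIso u := IsClosedImmersion.isIso_lift (Γs 0).ι i hker.symm
  haveI := (Γs 0).isIntegral
  obtain ⟨z, hz⟩ : y ∈ Set.range i := by rw [Scheme.Hom.range_fiberι]; exact hy
  haveI : Nonempty (Fib p) := ⟨z⟩
  haveI : IsIntegral (Fib p) := IsIntegral.of_isIso (inv u)
  have hdF : topologicalKrullDim ↥(Fib p) = 1 :=
    ((Scheme.homeoOfIso (asIso u)).isHomeomorph.topologicalKrullDim_eq).trans (Γs 0).dim_eq
  -- the rational point
  subst hz
  haveI : IsProper (Fib p ↘ Spec (CommRingCat.of (kf R))) := inferInstanceAs (IsProper (pullback.snd _ _))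
  haveI : IsLocalHom ((p.fiberι (cpt R)).stalkMap z).hom := (p.fiberι (cpt R)).toLRSHom.prop _
  have hsurj := (Groth.Agent.S9501.result p (cpt R) z).1
  have hrat : Function.Surjective (Curv2.resMap (kf R) (Fib p) z) := fun w => by
    obtain ⟨a, rfl⟩ := (Fib p).residue_surjective z w
    obtain ⟨a, rfl⟩ := hsurj a
    obtain ⟨c, hc⟩ := hres a
    refine ⟨red c, ?_⟩
    show (Fib p).residue z (Curv2.stalkMap (kf R) (Fib p) z (red c)) = _
    rw [← fiber_toStalk p z c]
    refine (sub_eq_zero.1 ?_).symm
    rw [← map_sub, ← map_sub]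
    refine (IsLocalRing.residue_eq_zero_iff _).2 fun hu => hc ?_
    exact IsLocalHom.map_nonunit (f := ((p.fiberι (cpt R)).stalkMap z).hom) _ hu
  haveI : IsRegularLocalRing ((Fib p).presheaf.stalk z) := by
    haveI := hreg (i z)
    haveI := (Groth.Ega4Algebra1.isRegularLocalRing_quotient_span_singleton
      (red_eq_zero_of_mem hπ p hy) hπy).1
    haveI : IsRegularLocalRing (X.presheaf.stalk (i z) ⧸ RingHom.ker (i.stalkMap z).hom) := by
      rw [ker_fiber_stalkMap p hπ z]; assumption
    exact IsRegularLocalRing.of_ringEquiv (RingHom.quotientKerEquivOfSurjective hsurj)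
  have hsm : z ∈ (Fib p ↘ Spec (CommRingCat.of (kf R))).smoothLocus := by
    letI := Curv2.resAlgebra (kf R) (Fib p) z
    refine (Groth.VarietyBC.mem_smoothLocus_iff_isRegularLocalRing (k := kf R) z ?_).2 ‹_›
    exact Algebra.FormallySmooth.of_equiv (AlgEquiv.ofBijective (Algebra.ofId (kf R) ((Fib p).residueField z))
      ⟨(algebraMap (kf R) ((Fib p).residueField z)).injective, hrat⟩)
  haveI := Groth.Agent.S7613.result (kf R) (Fib p) z hrat hsm
  have hgF : Curv2.genus (kf R) (Fib p) = 0 :=
    (genus_fib hg hH0 hC.2.2.2.le hdF.le (Groth.Curves1.RR.h0_eq_one_of_geometricallyIntegral (kf R))).symm.trans hgen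
  exact smooth_of_fibres hg (Groth.Curves1.RR.smooth_of_genus_zero (kf R) hdF hgF)

/-- Good reduction makes minimal models smooth. -/
theorem smooth_of_goodReduction {C X : Scheme.{u}} {f : C ⟶ Spec (CommRingCat.of (FractionRing R))}
    {p : X ⟶ Spec (CommRingCat.of R)} (hC : Curve.IsSmoothProperCurve (FractionRing R) C f)
    (hH0 : IsIso f.appTop) (hgood : Models.HasGoodReduction R C f) (hX : Models.IsMinimalModel R X p C f) :
    Smooth p := by
  obtain ⟨⟨⟨hflat, -, -, g, hg⟩, hp, hreg⟩, hmin⟩ := id hX
  obtain ⟨X', f', ⟨-, -, -, g', hg'⟩, hp', hsm'⟩ := hgood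
  haveI : IsProper f := hC.1
  haveI : IsIntegral C := hC.2.2.1
  haveI := geometricallyConnected hg' hH0
  haveI := CurveExtend.isIntegral f'
  haveI : IsProper (Over.mk p).hom := hp
  haveI : Nonempty (Over.mk p).left := ⟨g (genericPoint C)⟩
  haveI : IsIntegral X := Groth.ModelsGraphs.Transversal.isIntegral (X := Over.mk p) hreg
    (Groth.ModelsGraphs.GlobalFun.toGlobal_bijective_of_appTop p g f (ConcreteCategory.bijective_of_isIso _) hg)
  have hdim : topologicalKrullDim ↥(Fib f') = 1 := (dim_fib hg').trans hC.2.2.2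
  have hdX := dim_eq_two hg hC.2.2.2
  haveI := isOpenImmersion_left hg
  haveI := isOpenImmersion_left hg'
  by_cases hno : ∀ y : X, p y = cpt R → IsClosed ({y} : Set X) →
      ∀ ψ : X.presheaf.stalk y →+* X'.presheaf.stalk (xi f'), IsLocalHom ψ →
        (∀ c : R, ψ (toStalk p y c) = toStalk f' (xi f') c) →
        (∀ w : X'.presheaf.stalk (xi f'), ∃ b c, ψ c ≠ 0 ∧ w * ψ c = ψ b) → False
  · exact smooth_of_noCentre f' hdim hreg hdX.le (dim_eq_two hg' hC.2.2.2) hmin
      (hg.w.trans hg'.w.symm) (range_left hg) hno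
  · push Not at hno
    obtain ⟨y, hy, hyc, ψ, hψ, hcomp, hfrac, -⟩ := hno
    obtain ⟨π, hπ⟩ := IsDiscreteValuationRing.exists_irreducible R
    haveI := hreg y
    obtain ⟨hgen, hπy, hres⟩ := of_closed_centre f' hdim p hπ
      ((Groth.Duality.ringKrullDim_stalk_le y).trans hdX.le) hy hyc ψ hcomp hfrac
    have hgC : Models.curveGenus (FractionRing R) C f = 0 :=
      (genus_fib hg' hH0 hC.2.2.2.le hdim.le
        (Groth.CurveBridge.h0_of_geometrically (kf R) (Fib f') hdim)).trans hgen
    exact smooth_of_genus_zero hC hH0 hX hdX hgC hπ hy hπy hres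

end Groth.CurveExtend.Minimal
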