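import Groth.Agent.CurveExtend.MinimalSmooth
import Groth.Agent.ResolveSurf.ContractionDesc

/-!
# Rational points of models at which the closed fibre is regular

A contracted exceptional curve of multiplicity one with constants `k` gives such a point.
-/

set_option autoImplicit false
set_option backward.isDefEq.respectTransparency.types false
set_option maxHeartbeats 1000000
set_option linter.style.haveILetI false

universe u

open CategoryTheory CategoryTheory.Limits AlgebraicGeometry TopologicalSpace IsLocalRing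
open scoped Groth.CurveBridge

noncomputable section

namespace Groth.CurveExtend

variable {R : Type u} [CommRing R] [IsDomain R] [IsDiscreteValuationRing R]

/-- A rational point of the closed fibre at which it is regular. -/
def HasPoint {X : Scheme.{u}} (p : X ⟶ Spec (CommRingCat.of R)) : Prop :=
  ∃ (x : X) (π : R), Irreducible π ∧ p x = cpt R ∧
    toStalk p x π ∉ maximalIdeal (X.presheaf.stalk x) ^ 2 ∧
    ∀ a : X.presheaf.stalk x, ∃ c : R, a - toStalk p x c ∈ maximalIdeal (X.presheaf.stalk x)

/-- The constants of a point on its residue field. -/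
theorem fromSpecResidueField_appTop_const {X : Scheme.{u}} (p : X ⟶ Spec (CommRingCat.of R)) (x : X) (c : R) :
    (X.fromSpecResidueField x).appTop (p.appTop ((Scheme.ΓSpecIso (CommRingCat.of R)).inv c)) =
      (Scheme.ΓSpecIso (X.residueField x)).inv (X.residue x (toStalk p x c)) := by
  rw [Scheme.fromSpecResidueField, Scheme.Hom.comp_appTop, Scheme.fromSpecStalk_appTop]
  simp only [CommRingCat.comp_apply, homOfLE_refl, op_id, CategoryTheory.Functor.map_id,
    CommRingCat.id_apply]
  exact (ConcreteCategory.congr_hom (Scheme.ΓSpecIso_inv_naturality (X.residue x)) (toStalk p x c)).symm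

/-- One-dimensional constants of a vertical curve are constants of the base. -/
theorem surjective_of_wdeg_one {W : Over (Spec (CommRingCat.of R))} (Δ : ArSurf.VertComp R W)
    (hw : Models.wdeg R W Δ = 1) :
    Function.Surjective fun c : R =>
      Δ.curve.hom.appTop ((Scheme.ΓSpecIso (CommRingCat.of (ResidueField R))).inv (residue R c)) := by
  letI := (Groth.ModelsGraphs.DVRFibre.gl Δ.curve.hom).toAlgebra
  let eS := Groth.CohFin.equivSections Δ.curve.hom (Coh.structureModule Δ.curve.left)
  let sec : Coh.HH Δ.curve.left (Coh.structureModule Δ.curve.left) 0 ≃ₗ[ResidueField R] Γ(Δ.curve.left, ⊤) :=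
    { toFun := fun x => (eS x : Γ(Coh.structureModule Δ.curve.left, ⊤))
      invFun := fun s => eS.symm (s : Γ(Coh.structureModule Δ.curve.left, ⊤))
      left_inv := eS.symm_apply_apply
      right_inv := eS.apply_symm_apply
      map_add' := eS.map_add
      map_smul' := fun r x => Groth.CohFin.equivSections_smul Δ.curve.hom (Coh.structureModule Δ.curve.left) r x }
  have h1 : Module.finrank (ResidueField R) Γ(Δ.curve.left, ⊤) = 1 := sec.finrank_eq.symm.trans hw
  intro s
  haveI := Δ.isIntegral
  obtain ⟨t, ht⟩ := exists_smul_eq_of_finrank_eq_one h1 (one_ne_zero : (1 : Γ(Δ.curve.left, ⊤)) ≠ 0) s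
  obtain ⟨c, rfl⟩ := residue_surjective t
  rw [← Algebra.algebraMap_eq_smul_one] at ht
  exact ⟨c, ht⟩

/-- The image of a contracted vertical curve with constants `k` and multiplicity one is a rational
point at which the closed fibre is regular. -/
theorem hasPoint_of_contracted {W Z : Scheme.{u}} (s : Z ⟶ Spec (CommRingCat.of R)) (b : W ⟶ Z)
    [IsLocallyNoetherian W] [IsIntegral W] [Flat (b ≫ s)] [IsSeparated b]
    (Δ : ArSurf.VertComp R (Over.mk (b ≫ s))) {z : Z} (hz : IsClosed ({z} : Set Z)) (hzs : s z = cpt R)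
    (hb : ∀ e, b (Δ.ι e) = z) (hm : Models.mult R (Over.mk (b ≫ s)) Δ = 1)
    (hw : Models.wdeg R (Over.mk (b ≫ s)) Δ = 1) : HasPoint s := by
  obtain ⟨π, hπ⟩ := IsDiscreteValuationRing.exists_irreducible R
  haveI := Δ.isIntegral
  refine ⟨z, π, hπ, hzs, fun hsq => ?_, fun a => ?_⟩
  · let η : W := Models.genPtOf R (Over.mk (b ≫ s)) Δ
    have hη : b η = z := hb _
    have hm' : ∀ z' (hz' : z' = z), toStalk s z' π ∈ maximalIdeal (Z.presheaf.stalk z') ^ 2 := by
      rintro z' rfl
      exact hsq
    have h1 : b.stalkMap η (toStalk s (b η) π) ∈ maximalIdeal (W.presheaf.stalk η) ^ 2 := by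
      haveI : IsLocalHom (b.stalkMap η).hom := b.toLRSHom.prop η
      have hloc : ∀ r, r ∈ maximalIdeal (Z.presheaf.stalk (b η)) →
          b.stalkMap η r ∈ maximalIdeal (W.presheaf.stalk η) := fun r hr hu =>
        hr (IsLocalHom.map_nonunit (f := (b.stalkMap η).hom) r hu)
      exact Ideal.pow_right_mono (Ideal.map_le_iff_le_comap.2 hloc) 2
        (Ideal.map_pow (b.stalkMap η).hom (maximalIdeal _) 2 ▸ Ideal.mem_map_of_mem _ (hm' _ hη))
    rw [stalkMap_toStalk s b (b ≫ s) rfl η π] at h1
    have hI : Ideal.map (toStalk (b ≫ s) η) (maximalIdeal R) = Ideal.span {toStalk (b ≫ s) η π} := by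
      rw [hπ.maximalIdeal_eq, Ideal.map_span, Set.image_singleton]
    have hlen : Module.length (W.presheaf.stalk η)
        (W.presheaf.stalk η ⧸ Ideal.span {toStalk (b ≫ s) η π}) = 1 := by
      have h := hm
      unfold Models.mult at h
      change (Module.length (W.presheaf.stalk η)
        (W.presheaf.stalk η ⧸ Ideal.map (toStalk (b ≫ s) η) (maximalIdeal R))).toNat = 1 at h
      rw [hI] at h
      exact (ENat.toNat_eq_iff one_ne_zero).1 h
    have hmax : Ideal.span {toStalk (b ≫ s) η π} = maximalIdeal (W.presheaf.stalk η) :=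
      IsLocalRing.eq_maximalIdeal ⟨isSimpleModule_iff_isCoatom.1 (Module.length_eq_one_iff.1 hlen)⟩
    rw [← hmax, Ideal.span_singleton_pow, Ideal.mem_span_singleton'] at h1
    obtain ⟨v, hv⟩ := h1
    haveI : Flat (Over.mk (b ≫ s)).hom := ‹Flat (b ≫ s)›
    have hπ0 : toStalk (b ≫ s) η π ≠ 0 :=
      Groth.ModelsGraphs.Inter.stalkHom_ne_zero (X := Over.mk (b ≫ s)) hπ.ne_zero η
    have hu : IsUnit (toStalk (b ≫ s) η π) := .of_mul_eq_one v (mul_left_cancel₀ hπ0 (by linear_combination hv))
    exact (maximalIdeal.isMaximal (W.presheaf.stalk η)).ne_top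
      (hmax.symm.trans (Ideal.span_singleton_eq_top.2 hu))
  · let k := Z.fromSpecResidueField z
    haveI : IsClosedImmersion k := isClosed_singleton_iff_isClosedImmersion.mp hz
    have hker : k.ker ≤ (Δ.ι ≫ b).ker := by
      rw [Groth.AlgSp3.ker_eq_vanishingIdeal_of_isReduced, Groth.AlgSp3.ker_eq_vanishingIdeal_of_isReduced]
      refine Scheme.IdealSheafData.vanishingIdeal_antimono (closure_mono ?_)
      rintro _ ⟨e, rfl⟩
      rw [Scheme.range_fromSpecResidueField]
      exact hb e
    let l := IsClosedImmersion.lift k (Δ.ι ≫ b) hker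
    have hl : l ≫ k = Δ.ι ≫ b := IsClosedImmersion.lift_fac _ _ _
    obtain ⟨c, hc⟩ := surjective_of_wdeg_one Δ hw
      (l.appTop ((Scheme.ΓSpecIso (Z.residueField z)).inv (Z.residue z a)))
    refine ⟨c, (IsLocalRing.residue_eq_zero_iff _).1 ?_⟩
    let θ := (Scheme.ΓSpecIso (Z.residueField z)).inv ≫ l.appTop
    haveI : Nontrivial Γ(Δ.curve.left, ⊤) := inferInstance
    have hθ : Function.Injective θ := RingHom.injective θ.hom
    show Z.residue z (a - toStalk s z c) = 0
    rw [map_sub, sub_eq_zero]
    refine hθ ?_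
    show l.appTop ((Scheme.ΓSpecIso (Z.residueField z)).inv (Z.residue z a)) =
      l.appTop ((Scheme.ΓSpecIso (Z.residueField z)).inv (Z.residue z (toStalk s z c)))
    rw [← hc, ← fromSpecResidueField_appTop_const s z c, ← CommRingCat.comp_apply, ← Scheme.Hom.comp_appTop,
      ← CommRingCat.comp_apply, ← Scheme.Hom.comp_appTop, hl]
    have hw' : (Δ.ι ≫ b) ≫ s = Δ.curve.hom ≫ Spec.map (CommRingCat.ofHom (residue R)) := by
      rw [Category.assoc]
      exact Δ.w
    rw [hw', Scheme.Hom.comp_appTop, CommRingCat.comp_apply]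
    refine congrArg Δ.curve.hom.appTop ?_
    exact ConcreteCategory.congr_hom (Scheme.ΓSpecIso_inv_naturality (CommRingCat.ofHom (residue R))) c

/-- Points descend along morphisms of models. -/
theorem HasPoint.map {X Y : Scheme.{u}} {p : X ⟶ Spec (CommRingCat.of R)} {q : Y ⟶ Spec (CommRingCat.of R)}
    (r : Y ⟶ X) (hr : r ≫ p = q) (h : HasPoint q) : HasPoint p := by
  obtain ⟨y, π, hπ, hy, hsq, hres⟩ := h
  haveI : IsLocalHom (r.stalkMap y).hom := r.toLRSHom.prop y
  refine ⟨r y, π, hπ, by rw [← Scheme.Hom.comp_apply, hr, hy], fun h2 => hsq ?_, fun a => ?_⟩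
  · rw [← stalkMap_toStalk p r q hr y π]
    have hloc : ∀ t, t ∈ maximalIdeal (X.presheaf.stalk (r y)) →
        r.stalkMap y t ∈ maximalIdeal (Y.presheaf.stalk y) := fun t ht hu =>
      ht (IsLocalHom.map_nonunit (f := (r.stalkMap y).hom) t hu)
    exact Ideal.pow_right_mono (Ideal.map_le_iff_le_comap.2 hloc) 2
      (Ideal.map_pow (r.stalkMap y).hom (maximalIdeal _) 2 ▸ Ideal.mem_map_of_mem _ h2)
  · obtain ⟨c, hc⟩ := hres (r.stalkMap y a)
    refine ⟨c, fun hu => hc ?_⟩
    rw [← stalkMap_toStalk p r q hr y c, ← map_sub]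
    exact hu.map (r.stalkMap y).hom

end Groth.CurveExtend
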