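import Mathlib.RingTheory.DiscreteValuationRing.Basic
import Mathlib.FieldTheory.IntermediateField.Adjoin.Basic
import Mathlib.RingTheory.Algebraic.Basic

/-!
# Divisorial valuations over two-dimensional regular points have rational residue fields

The elementary form used for extending isomorphisms of curves over discrete valuation rings: a
discrete valuation ring which dominates a subring with maximal ideal generated by two elements, one
of which is a uniformizer, has residue field generated by one element over the constants.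
-/

set_option autoImplicit false

universe u

namespace Groth.CurveExtend

variable {O : Type u} [CommRing O] [IsDomain O] [IsDiscreteValuationRing O]
  {k κ : Type u} [Field k] [Field κ] [Algebra k κ] (res : O →+* κ) (π : O)

/-- A subring whose residues are the constants and whose maximal part is generated by `π` and `t`. -/
structure Stage (A : Subring O) (t : O) : Prop where
  mem_π : π ∈ A
  mem_t : t ∈ A
  res_t : res t = 0
  res_mem : ∀ a ∈ A, res a ∈ Set.range (algebraMap k κ)
  res_lift : ∀ c : k, ∃ a ∈ A, res a = algebraMap k κ c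
  split : ∀ a ∈ A, res a = 0 → ∃ u ∈ A, ∃ v ∈ A, a = π * u + t * v

variable {res π}

theorem exists_mul (hπ : Irreducible π) (hres : ∀ a, res a = 0 ↔ ¬ IsUnit a) {a : O} (ha : res a = 0) :
    ∃ b, a = π * b := by
  have h : a ∈ IsLocalRing.maximalIdeal O := (hres a).1 ha
  rw [hπ.maximalIdeal_eq, Ideal.mem_span_singleton] at h
  exact h

open Polynomial in
/-- One blow-up: if the new parameter has transcendental residue, all residues are rational in it. -/
theorem res_mem_adjoin_of_notMem (hπ : Irreducible π) (hres : ∀ a, res a = 0 ↔ ¬ IsUnit a)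
    (hconst : ∀ x : κ, IsAlgebraic k x → x ∈ Set.range (algebraMap k κ))
    {A : Subring O} {t : O} (hA : Stage (k := k) res π A t) {s : O} (hs : t = π * s)
    (hτ : res s ∉ Set.range (algebraMap k κ)) :
    ∀ (n : ℕ) (u : O), IsUnit u → π ^ n * u ∈ Subring.closure ((A : Set O) ∪ {s}) →
      res u ∈ IntermediateField.adjoin k ({res s} : Set κ) := by
  classical
  intro n u hu hmem
  obtain ⟨P, hP⟩ : ∃ P : A[X], P.eval₂ A.subtype s = π ^ n * u := by
    refine Subring.closure_induction (p := fun c _ => ∃ P : A[X], P.eval₂ A.subtype s = c) ?_ ⟨0, by simp⟩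
      ⟨1, by simp⟩ (fun _ _ _ _ ⟨P, hP⟩ ⟨Q, hQ⟩ => ⟨P + Q, by rw [eval₂_add, hP, hQ]⟩)
      (fun _ _ ⟨P, hP⟩ => ⟨-P, by rw [eval₂_neg, hP]⟩)
      (fun _ _ _ _ ⟨P, hP⟩ ⟨Q, hQ⟩ => ⟨P * Q, by rw [eval₂_mul, hP, hQ]⟩) hmem
    rintro c (hc | rfl)
    · exact ⟨C ⟨c, hc⟩, by simp⟩
    · exact ⟨X, by simp⟩
  clear hmem
  have hp0 : res π = 0 := (hres π).2 hπ.not_isUnit
  choose c hc using fun a : A => hA.res_mem a a.2
  induction n generalizing P with
  | zero =>
    rw [pow_zero, one_mul] at hP
    rw [← hP, hom_eval₂, eval₂_eq_sum, Polynomial.sum]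
    refine sum_mem fun i _ => mul_mem ?_ (pow_mem (IntermediateField.mem_adjoin_simple_self k _) i)
    rw [RingHom.comp_apply, A.coe_subtype, ← hc]
    exact IntermediateField.algebraMap_mem _ _
  | succ n ih =>
    -- all coefficients reduce to zero
    have hcoef : ∀ i, res (P.coeff i) = 0 := by
      let Q : k[X] := P.sum fun i a => monomial i (c a)
      have hQ : aeval (res s) Q = 0 := by
        have h := congrArg res hP
        rw [hom_eval₂, map_mul, map_pow, hp0, zero_pow (Nat.succ_ne_zero n), zero_mul, eval₂_eq_sum,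
          Polynomial.sum] at h
        rw [← h, show Q = P.sum fun i a => monomial i (c a) from rfl, Polynomial.sum, map_sum]
        refine Finset.sum_congr rfl fun i _ => ?_
        rw [aeval_monomial, hc]
        rfl
      have hQ0 : Q = 0 := (transcendental_iff.1 fun h => hτ (hconst _ h)) Q hQ
      intro i
      by_cases hi : i ∈ P.support
      · have h := congrArg (fun R : k[X] => R.coeff i) hQ0
        simp only [Q, Polynomial.sum, finsetSum_coeff, coeff_monomial, coeff_zero,
          Finset.sum_ite_eq', if_pos hi] at h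
        rw [← hc, h, map_zero]
      · rw [notMem_support_iff.1 hi]
        exact map_zero res
    choose a ha b hb hab using fun i => hA.split _ (P.coeff i).2 (hcoef i)
    refine ih (∑ i ∈ P.support, (C ⟨a i, ha i⟩ + X * C ⟨b i, hb i⟩) * X ^ i) (mul_left_cancel₀ hπ.ne_zero ?_)
    rw [← mul_assoc, ← pow_succ', ← hP, eval₂_finsetSum, Finset.mul_sum, eval₂_eq_sum, Polynomial.sum]
    refine Finset.sum_congr rfl fun i _ => ?_
    simp only [eval₂_mul, eval₂_add, eval₂_C, eval₂_X, eval₂_pow, Subring.coe_subtype]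
    rw [hab i, hs]
    ring

/-- The next stage, when the new parameter has constant residue. -/
theorem stage_next (hπ : Irreducible π) (hres : ∀ a, res a = 0 ↔ ¬ IsUnit a)
    {A : Subring O} {t : O} (hA : Stage (k := k) res π A t) {s c₀ : O} (hs : t = π * s)
    (hc₀ : c₀ ∈ A) (hsc : res c₀ = res s) :
    Stage (k := k) res π (Subring.closure ((A : Set O) ∪ {s})) (s - c₀) := by
  have hle : A ≤ Subring.closure ((A : Set O) ∪ {s}) := fun a ha => Subring.subset_closure (Or.inl ha)
  have hsm : s ∈ Subring.closure ((A : Set O) ∪ {s}) := Subring.subset_closure (Or.inr rfl)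
  set B := Subring.closure ((A : Set O) ∪ {s})
  -- every element is congruent to one of `A` modulo the new parameter
  have key : ∀ b ∈ B, ∃ a ∈ A, ∃ v ∈ B, b = a + (s - c₀) * v := by
    intro b hb
    refine Subring.closure_induction (p := fun b _ => ∃ a ∈ A, ∃ v ∈ B, b = a + (s - c₀) * v) ?_
      ⟨0, A.zero_mem, 0, B.zero_mem, by ring⟩ ⟨1, A.one_mem, 0, B.zero_mem, by ring⟩ ?_ ?_ ?_ hb
    · rintro x (hx | rfl)
      · exact ⟨x, hx, 0, B.zero_mem, by ring⟩
      · exact ⟨c₀, hc₀, 1, B.one_mem, by ring⟩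
    · rintro x y _ _ ⟨a, ha, v, hv, rfl⟩ ⟨a', ha', v', hv', rfl⟩
      exact ⟨a + a', A.add_mem ha ha', v + v', B.add_mem hv hv', by ring⟩
    · rintro x _ ⟨a, ha, v, hv, rfl⟩
      exact ⟨-a, A.neg_mem ha, -v, B.neg_mem hv, by ring⟩
    · rintro x y _ _ ⟨a, ha, v, hv, rfl⟩ ⟨a', ha', v', hv', rfl⟩
      exact ⟨a * a', A.mul_mem ha ha', a * v' + a' * v + (s - c₀) * v * v',
        B.add_mem (B.add_mem (B.mul_mem (hle ha) hv') (B.mul_mem (hle ha') hv))
          (B.mul_mem (B.mul_mem (B.sub_mem hsm (hle hc₀)) hv) hv'), by ring⟩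
  refine ⟨hle hA.mem_π, B.sub_mem hsm (hle hc₀), by rw [map_sub, hsc, sub_self], fun b hb => ?_,
    fun c => ?_, fun b hb hb0 => ?_⟩
  · obtain ⟨a, ha, v, -, rfl⟩ := key b hb
    rw [map_add, map_mul, map_sub, hsc, sub_self, zero_mul, add_zero]
    exact hA.res_mem a ha
  · obtain ⟨a, ha, h⟩ := hA.res_lift c
    exact ⟨a, hle ha, h⟩
  · obtain ⟨a, ha, v, hv, rfl⟩ := key b hb
    rw [map_add, map_mul, map_sub, hsc, sub_self, zero_mul, add_zero] at hb0
    obtain ⟨x, hx, y, hy, rfl⟩ := hA.split a ha hb0
    exact ⟨x + s * y, B.add_mem (hle hx) (B.mul_mem hsm (hle hy)), v, hv, by rw [hs]; ring⟩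

/-- The residue field is generated by one element over the constants. -/
theorem exists_adjoin_eq_top (hπ : Irreducible π) (hres : ∀ a, res a = 0 ↔ ¬ IsUnit a)
    (hsurj : Function.Surjective res)
    (hconst : ∀ x : κ, IsAlgebraic k x → x ∈ Set.range (algebraMap k κ))
    {A : Subring O} {t : O} (hA : Stage (k := k) res π A t)
    (hfrac : ∀ a : O, ∃ b ∈ A, ∃ c ∈ A, c ≠ 0 ∧ a * c = b) :
    ∃ x : κ, IntermediateField.adjoin k ({x} : Set κ) = ⊤ := by
  classical
  have hp0 : res π = 0 := (hres π).2 hπ.not_isUnit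
  -- residues of leading coefficients determine all residues
  have top_of : ∀ (x : κ) (B : Subring O), A ≤ B →
      (∀ (n : ℕ) (u : O), IsUnit u → π ^ n * u ∈ B → res u ∈ IntermediateField.adjoin k ({x} : Set κ)) →
      IntermediateField.adjoin k ({x} : Set κ) = ⊤ := by
    intro x B hAB h
    refine eq_top_iff.2 fun z _ => ?_
    obtain ⟨a, rfl⟩ := hsurj z
    by_cases ha : res a = 0
    · rw [ha]; exact zero_mem _
    have hau : IsUnit a := not_not.1 (mt (hres a).2 ha)
    obtain ⟨b, hb, c, hc, hc0, he⟩ := hfrac a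
    obtain ⟨n, u, rfl⟩ := IsDiscreteValuationRing.eq_unit_mul_pow_irreducible hc0 hπ
    have h1 := h n u u.isUnit (by rw [mul_comm]; exact hAB hc)
    have h2 := h n (a * u) (hau.mul u.isUnit) (by
      rw [show π ^ n * (a * ↑u) = a * (↑u * π ^ n) by ring, he]; exact hAB hb)
    rw [map_mul] at h2
    have hu0 : res (u : O) ≠ 0 := fun h' => (hres _).1 h' u.isUnit
    have := div_mem h2 h1
    rwa [mul_div_cancel_right₀ _ hu0] at this
  by_contra hcon
  push Not at hcon
  suffices h : ∀ (n : ℕ) (B : Subring O) (t : O), A ≤ B → Stage (k := k) res π B t →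
      ∀ u : O, IsUnit u → π ^ n * u ∈ B → res u ∈ IntermediateField.adjoin k ({0} : Set κ) from
    hcon 0 (top_of 0 A le_rfl fun n u hu hm => h n A t le_rfl hA u hu hm)
  intro n
  induction n with
  | zero =>
    intro B t _ hB u _ hm
    rw [pow_zero, one_mul] at hm
    obtain ⟨c, hc⟩ := hB.res_mem u hm
    rw [← hc]
    exact IntermediateField.algebraMap_mem _ _
  | succ n ih =>
    intro B t hAB hB u hu hm
    obtain ⟨s, hs⟩ := exists_mul hπ hres hB.res_t
    by_cases hτ : res s ∈ Set.range (algebraMap k κ)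
    · obtain ⟨c, hc⟩ := hτ
      obtain ⟨c₀, hc₀, hc₀r⟩ := hB.res_lift c
      have hN := stage_next hπ hres hB hs hc₀ (hc₀r.trans hc)
      have hle : B ≤ Subring.closure ((B : Set O) ∪ {s}) := fun a ha => Subring.subset_closure (Or.inl ha)
      obtain ⟨x, hx, y, hy, hxy⟩ := hB.split _ hm
        (by rw [map_mul, map_pow, hp0, zero_pow (Nat.succ_ne_zero n), zero_mul])
      refine ih _ _ (hAB.trans hle) hN u hu ?_
      have : π ^ n * u = x + s * y := mul_left_cancel₀ hπ.ne_zero (by
        rw [← mul_assoc, ← pow_succ', hxy, hs]; ring)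
      rw [this]
      exact add_mem (hle hx) (mul_mem (Subring.subset_closure (Or.inr rfl)) (hle hy))
    · exact (hcon (res s) (top_of _ _ (hAB.trans fun a ha => Subring.subset_closure (Or.inl ha))
        fun m v hv hmv => res_mem_adjoin_of_notMem hπ hres hconst hB hs hτ m v hv hmv)).elim

end Groth.CurveExtend
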