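import Groth.Agent.CurveExtend.MinimalSmooth
import Groth.Agent.CurveExtend.RationalPoint
import Groth.Agent.S18215
import Groth.Agent.S7322
import Groth.Agent.ResolveSurf.ContractionDesc

/-!
# Exceptional curves on regular models of curves of positive genus

They are pairwise disjoint, hence all contracted by the morphism to a minimal model.
-/

set_option autoImplicit false
set_option backward.isDefEq.respectTransparency.types false
set_option maxHeartbeats 1000000
set_option linter.style.haveILetI false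

universe u

open CategoryTheory CategoryTheory.Limits AlgebraicGeometry TopologicalSpace IsLocalRing
open scoped Groth.CurveBridge

noncomputable section

namespace Groth.CurveExtend.Unique

/-- Two `(-1)`-indices of a numerical type which meet are the only indices, with equal multiplicities
and constants. -/
theorem genus_of_pair {n : ℕ} (T : Models.NumericalType n) {i j : Fin n} (hij : i ≠ j)
    (hi : T.IsMinusOne i) (hj : T.IsMinusOne j) (hne : T.a i j ≠ 0) :
    T.genus = 1 - T.m i * T.w i ∧ T.m j = T.m i ∧ T.w j = T.w i := by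
  classical
  have hji : T.a j i = T.a i j := T.symm.apply i j
  have hc : 0 < T.a i j := lt_of_le_of_ne (T.offDiag_nonneg i j hij) (Ne.symm hne)
  have hwi : T.w i ≤ T.a i j := Int.le_of_dvd hc (T.w_dvd i j)
  have hwj : T.w j ≤ T.a i j := hji ▸ Int.le_of_dvd (hji.symm ▸ hc) (T.w_dvd j i)
  have row : ∀ k l, k ≠ l → T.a k k * T.m k + T.a k l * T.m l +
      ∑ r ∈ Finset.univ \ {k, l}, T.a k r * T.m r = 0 := fun k l hkl => by
    have h : ∑ r, T.a k r * T.m r = 0 := congrFun T.mulVec_m k
    rw [← Finset.sum_sdiff (Finset.subset_univ {k, l}), Finset.sum_pair hkl] at h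
    linarith
  have rest : ∀ k l, 0 ≤ ∑ r ∈ Finset.univ \ {k, l}, T.a k r * T.m r := fun k l =>
    Finset.sum_nonneg fun r hr => mul_nonneg
      (T.offDiag_nonneg k r fun e => by simp [← e] at hr) (T.m_pos r).le
  have h1 := row i j hij
  have h2 := row j i hij.symm
  have r1 := rest i j
  have r2 := rest j i
  rw [hi.2] at h1
  rw [hj.2, hji] at h2
  have hmi := T.m_pos i
  have hmj := T.m_pos j
  have wi := T.w_pos i
  have wj := T.w_pos j
  have e1 : T.m j ≤ T.m i := by
    have h5 : T.w i * T.m j ≤ T.a i j * T.m j := mul_le_mul_of_nonneg_right hwi hmj.le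
    exact le_of_mul_le_mul_left (by linarith : T.w i * T.m j ≤ T.w i * T.m i) wi
  have e2 : T.m i ≤ T.m j := by
    have h5 : T.w j * T.m i ≤ T.a i j * T.m i := mul_le_mul_of_nonneg_right hwj hmi.le
    exact le_of_mul_le_mul_left (by linarith : T.w j * T.m i ≤ T.w j * T.m j) wj
  have em : T.m j = T.m i := le_antisymm e1 e2
  rw [em] at h1 h2
  have hai : T.a i j = T.w i := le_antisymm
    (le_of_mul_le_mul_right (by linarith : T.a i j * T.m i ≤ T.w i * T.m i) hmi) hwi
  have haj : T.a i j = T.w j := le_antisymm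
    (le_of_mul_le_mul_right (by linarith : T.a i j * T.m i ≤ T.w j * T.m i) hmi) hwj
  have z1 : ∑ r ∈ Finset.univ \ {i, j}, T.a i r * T.m r = 0 := by
    rw [hai] at h1; linarith
  have z2 : ∑ r ∈ Finset.univ \ {j, i}, T.a j r * T.m r = 0 := by
    rw [haj] at h2; linarith
  have hzero : ∀ k l, (∑ r ∈ Finset.univ \ {k, l}, T.a k r * T.m r = 0) →
      ∀ r, r ≠ k → r ≠ l → T.a k r = 0 := fun k l hz r hrk hrl => by
    have h := (Finset.sum_eq_zero_iff_of_nonneg fun s hs => mul_nonneg
      (T.offDiag_nonneg k s fun e => by simp [← e] at hs) (T.m_pos s).le).1 hz r (by simp [hrk, hrl])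
    exact (mul_eq_zero.1 h).resolve_right (T.m_pos r).ne'
  have huniv : ({i, j} : Finset (Fin n)) = Finset.univ := by
    by_contra hu
    obtain ⟨k, hk, l, hl, hkl⟩ := T.connected {i, j} ⟨i, by simp⟩ hu
    simp only [Finset.mem_insert, Finset.mem_singleton, not_or] at hk hl
    rcases hk with rfl | rfl
    · exact hkl (hzero _ _ z1 l hl.1 hl.2)
    · exact hkl (hzero _ _ z2 l hl.2 hl.1)
  have hgi := hi.1
  have hgj := hj.1
  unfold Models.NumericalType.genus
  rw [← huniv, Finset.sum_pair hij, Finset.sum_pair hij, hgi, hgj, hi.2, hj.2, em, ← haj, hai,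
    show T.m i * -T.w i + T.m i * -T.w i = 2 * (-(T.m i * T.w i)) by ring, Int.mul_ediv_cancel_left _ two_ne_zero]
  exact ⟨by ring, rfl, rfl⟩

variable {R : Type u} [CommRing R] [IsDomain R] [IsDiscreteValuationRing R]

/-- An exceptional curve in the closed fibre is a vertical prime divisor. -/
theorem exists_vertComp {X : Over (Spec (CommRingCat.of R))} [IsIntegral X.left] [Flat X.hom]
    [IsProper X.hom] (hd : topologicalKrullDim X.left = 2) {E : Scheme.{u}} (ι : E ⟶ X.left)
    [IsClosedImmersion ι] (hE : Models.IsExcCurve ι) (hS : Set.range ι.base ⊆ Models.specialFibreSet R X) :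
    ∃ Γ : ArSurf.VertComp R X,
      Set.range (Γ.ι.base : Γ.curve.left → X.left) = Set.range ι.base ∧ Models.IsExcCurve Γ.ι := by
  obtain ⟨hEi, a, c, hac⟩ := Groth.ArSurfBasics.ExcContracted.isIntegral_of_isExcCurve hE
  haveI := hEi
  obtain ⟨c', hc', hcg⟩ : ∃ c' : E, c' ≠ genericPoint E ∧ genericPoint E ⤳ c' := by
    by_cases h : a = genericPoint E
    · exact ⟨c, fun e => hac (h.trans e.symm), genericPoint_specializes _⟩
    · exact ⟨a, h, genericPoint_specializes _⟩
  have hZ : Set.range ι.base ∈ Models.fibreComponents R X := by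
    refine ⟨⟨?_, hS⟩, fun T hT hle t ht => ?_⟩
    · rw [← Set.image_univ]
      exact (IrreducibleSpace.isIrreducible_univ E).image _ ι.continuous.continuousOn
    · obtain ⟨g, hg⟩ := QuasiSober.sober hT.1.closure isClosed_closure
      have hgS : g ∈ Models.specialFibreSet R X :=
        closure_minimal hT.2 (Models.isClosed_specialFibreSet R X) hg.mem
      have h1 : g ⤳ ι (genericPoint E) := hg.specializes (subset_closure (hle ⟨_, rfl⟩))
      have hge : g = ι (genericPoint E) := by
        by_contra hne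
        exact Groth.ArSurfBasics.no_chain_in_fibre hd hgS h1 hne (hcg.map ι.continuous)
          (fun e => hc' (ι.isClosedEmbedding.injective e).symm)
      have h2 : g ⤳ t := hg.specializes (subset_closure ht)
      rw [hge] at h2
      exact h2.mem_closed ι.isClosedEmbedding.isClosed_range ⟨_, rfl⟩
  obtain ⟨Γ, hΓ⟩ := Groth.ArSurfBasics.exists_vertComp hd hZ ⟨a, rfl⟩ ⟨c, rfl⟩
    (fun e => hac (ι.isClosedEmbedding.injective e))
  haveI := Γ.isIntegral
  have hk : Γ.ι.ker = ι.ker := by
    rw [Groth.AlgSp3.ker_eq_vanishingIdeal_of_isReduced, Groth.AlgSp3.ker_eq_vanishingIdeal_of_isReduced]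
    exact congrArg Scheme.IdealSheafData.vanishingIdeal
      (TopologicalSpace.Closeds.ext (congrArg closure hΓ))
  refine ⟨Γ, hΓ, ?_⟩
  obtain ⟨hC, k, hk', φ, ⟨t⟩⟩ := hE
  let u := IsClosedImmersion.lift Γ.ι ι hk.le
  haveI : IsIso u := IsClosedImmersion.isIso_lift Γ.ι ι hk
  have hu : u ≫ Γ.ι = ι := IsClosedImmersion.lift_fac _ _ _
  refine ⟨hk ▸ hC, k, hk', φ ≪≫ asIso u, ⟨?_⟩⟩
  exact eqToIso (congrArg (fun J => (Scheme.Modules.pullback ((φ ≪≫ asIso u).hom ≫ Γ.ι)).obj (ClSub.idealMod J)) hk) ≪≫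
    (Scheme.Modules.pullbackCongr (by rw [Iso.trans_hom, asIso_hom, Category.assoc, hu])).app _ ≪≫ t



variable {C : Scheme.{u}} {f : C ⟶ Spec (CommRingCat.of (FractionRing R))}

/-- A regular proper integral surface model with a chosen generic fibre. -/
structure IsSurf (f : C ⟶ Spec (CommRingCat.of (FractionRing R))) {X : Scheme.{u}}
    (p : X ⟶ Spec (CommRingCat.of R)) (g : C ⟶ X) : Prop where
  reg : Models.IsRegularScheme X
  integral : IsIntegral X
  dim : topologicalKrullDim X = 2
  proper : IsProper p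
  flat : Flat p
  pb : IsPullback g f p (Spec.map (CommRingCat.ofHom (algebraMap R (FractionRing R))))

theorem IsSurf.isRegularProperModel {X : Scheme.{u}} {p : X ⟶ Spec (CommRingCat.of R)} {g : C ⟶ X}
    (h : IsSurf f p g) : Models.IsRegularProperModel R X p C f := by
  haveI := h.proper
  exact ⟨⟨h.flat, inferInstance, inferInstance, g, h.pb⟩, h.proper, h.reg⟩

theorem IsSurf.isNoetherian {X : Scheme.{u}} {p : X ⟶ Spec (CommRingCat.of R)} {g : C ⟶ X}
    (h : IsSurf f p g) : AlgebraicGeometry.IsNoetherian X := by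
  haveI := h.proper
  haveI : IsLocallyNoetherian X := LocallyOfFiniteType.isLocallyNoetherian p
  haveI : CompactSpace X := QuasiCompact.compactSpace_of_compactSpace p
  exact {}

/-- Closed points of a proper scheme lie over the closed point. -/
theorem eq_cpt_of_isClosed {X : Scheme.{u}} (p : X ⟶ Spec (CommRingCat.of R)) [IsProper p] {x : X}
    (hx : IsClosed ({x} : Set X)) : p x = cpt R := by
  have h1 : IsClosed ({p x} : Set (Spec (CommRingCat.of R))) := by simpa using p.isClosedMap _ hx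
  exact PrimeSpectrum.ext (IsLocalRing.eq_maximalIdeal
    ((PrimeSpectrum.isClosed_singleton_iff_isMaximal (p x : PrimeSpectrum R)).1 h1))

/-- Regular proper models are surface models. -/
theorem isSurf_of_model (hC : Curve.IsSmoothProperCurve (FractionRing R) C f) (hH0 : IsIso f.appTop)
    {X : Scheme.{u}} {p : X ⟶ Spec (CommRingCat.of R)} (hX : Models.IsRegularProperModel R X p C f)
    {g : C ⟶ X} (hg : IsPullback g f p (Spec.map (CommRingCat.ofHom (algebraMap R (FractionRing R))))) :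
    IsSurf f p g := by
  obtain ⟨⟨hflat, -, -, -⟩, hp, hreg⟩ := hX
  haveI : IsIntegral C := hC.2.2.1
  haveI : IsProper f := hC.1
  haveI : IsProper (Over.mk p).hom := hp
  haveI : Nonempty (Over.mk p).left := ⟨g (genericPoint C)⟩
  haveI : IsIntegral X := Groth.ModelsGraphs.Transversal.isIntegral (X := Over.mk p) hreg
    (Groth.ModelsGraphs.GlobalFun.toGlobal_bijective_of_appTop p g f (ConcreteCategory.bijective_of_isIso _) hg)
  exact ⟨hreg, ‹_›, Minimal.dim_eq_two hg hC.2.2.2, hp, hflat, hg⟩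

variable {X Y : Scheme.{u}} {p : X ⟶ Spec (CommRingCat.of R)} {q : Y ⟶ Spec (CommRingCat.of R)}
  {gX : C ⟶ X} {gY : C ⟶ Y}

/-- A morphism of models is the identity on the generic fibre, cartesian. -/
theorem isPullback_generic (hX : IsSurf f p gX) (hY : IsSurf f q gY) (u : Y ⟶ X) (hu : u ≫ p = q)
    (hg : gY ≫ u = gX) : IsPullback gY (𝟙 C) u gX := by
  refine IsPullback.of_bot ?_ (by rw [Category.id_comp, hg]) hX.pb
  rw [hu, Category.id_comp]
  exact hY.pb

/-- A morphism of models is an isomorphism over the generic fibre. -/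
theorem isIso_restrict (hX : IsSurf f p gX) (hY : IsSurf f q gY) (u : Y ⟶ X) (hu : u ≫ p = q)
    (hg : gY ≫ u = gX) :
    haveI := Minimal.isOpenImmersion_left hX.pb
    IsIso (u ∣_ gX.opensRange) := by
  haveI := Minimal.isOpenImmersion_left hX.pb
  refine ((MorphismProperty.isomorphisms Scheme.{u}).arrow_mk_iso_iff
    (morphismRestrictOpensRange u gX)).2 ?_
  have h := isPullback_generic hX hY u hu hg
  show IsIso (pullback.snd u gX)
  rw [← h.isoPullback_inv_snd]
  infer_instance

/-- A morphism of models is a composite of contractions. -/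
theorem isContractionSeq_of_hom [IsIntegral C] (hX : IsSurf f p gX) (hY : IsSurf f q gY) (u : Y ⟶ X)
    (hu : u ≫ p = q) (hg : gY ≫ u = gX) : Models.IsContractionSeq u := by
  haveI := hX.integral
  haveI := hY.integral
  haveI := hX.proper
  haveI := hY.proper
  haveI := Minimal.isOpenImmersion_left hX.pb
  haveI := hX.isNoetherian
  haveI := hY.isNoetherian
  haveI : IsProper (u ≫ p) := by rw [hu]; infer_instance
  haveI : IsProper u := IsProper.of_comp u p
  exact Groth.ArSurfBasics.Factorization.isContractionSeq u hY.reg hY.dim hX.dim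
    (isIso_restrict hX hY u hu hg) ⟨gX (genericPoint C), ⟨_, rfl⟩⟩ hX.reg

/-- Models lift along contraction sequences. -/
theorem exists_isSurf [IsIntegral C] (hC : topologicalKrullDim C = 1) {W Z : Scheme.{u}} {r : W ⟶ Z}
    (hr : Models.IsContractionSeq r) :
    ∀ (s : Z ⟶ Spec (CommRingCat.of R)) (gZ : C ⟶ Z), IsSurf f s gZ →
      ∃ gW : C ⟶ W, gW ≫ r = gZ ∧ IsSurf f (r ≫ s) gW := by
  induction hr with
  | @iso W Z e =>
    intro s gZ h
    haveI := h.integral
    haveI := h.proper
    haveI := h.flat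
    haveI : Nonempty W := ⟨e.inv (Classical.arbitrary Z)⟩
    refine ⟨gZ ≫ e.inv, by rw [Category.assoc, e.inv_hom_id, Category.comp_id], fun x => ?_,
      isIntegral_of_isOpenImmersion e.hom, e.hom.homeomorph.isHomeomorph.topologicalKrullDim_eq.trans h.dim,
      inferInstance, inferInstance, ?_⟩
    · haveI := h.reg (e.hom x)
      exact IsRegularLocalRing.of_ringEquiv (asIso (e.hom.stalkMap x)).commRingCatIsoToRingEquiv
    · exact h.pb.of_iso (Iso.refl _) e.symm (Iso.refl _) (Iso.refl _) (by simp) (by simp) (by simp) (by simp)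
  | @step W Z X E ι b r hι hE hb hr ih =>
    intro s gX h
    obtain ⟨gZ, hgZ, hZ⟩ := ih s gX h
    obtain ⟨hN, hbp, z, hz, -, hzreg, hzd, hbl⟩ := hb
    haveI := hbp
    haveI := hN
    haveI := hzreg
    haveI := hZ.integral
    haveI := hZ.proper
    haveI := hZ.flat
    haveI := Minimal.isOpenImmersion_left hZ.pb
    obtain ⟨hW, hgen, hzg, hiso⟩ := Groth.ArSurfBasics.ArithBlowUp.blowUp_basic hz hzd b hbl
    haveI := hW
    let V : Z.Opens := ⟨{z}ᶜ, hz.isOpen_compl⟩
    have hrange : Set.range gZ ⊆ Set.range V.ι := by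
      rintro _ ⟨c, rfl⟩
      rw [Scheme.Opens.range_ι]
      intro hc
      have h1 : gZ c ∈ Set.range gZ := ⟨c, rfl⟩
      rw [Minimal.range_left hZ.pb, Set.mem_preimage] at h1
      rw [show gZ c = z from hc, eq_cpt_of_isClosed (r ≫ s) hz] at h1
      exact IsDiscreteValuationRing.not_a_field R (congrArg PrimeSpectrum.asIdeal h1)
    let l := IsOpenImmersion.lift V.ι gZ hrange
    have hl : l ≫ V.ι = gZ := IsOpenImmersion.lift_fac _ _ _
    haveI : IsIso (pullback.snd b gZ) := by
      have hsq := (isPullback_morphismRestrict b V).flip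
      let m : pullback b gZ ⟶ ↑(b ⁻¹ᵁ V) := hsq.lift (pullback.fst b gZ) (pullback.snd b gZ ≫ l)
        (by rw [Category.assoc, hl, pullback.condition])
      have h2 : IsPullback m (pullback.snd b gZ) (b ∣_ V) l := by
        refine IsPullback.of_right ?_ (hsq.lift_snd _ _ _) hsq
        rw [hsq.lift_fst, hl]
        exact IsPullback.of_hasPullback _ _
      exact (MorphismProperty.isomorphisms Scheme.{u}).of_isPullback h2 hiso
    let gW : C ⟶ W := inv (pullback.snd b gZ) ≫ pullback.fst b gZ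
    have hgW : IsPullback gW (𝟙 C) b gZ := by
      refine (IsPullback.of_hasPullback b gZ).of_iso (asIso (pullback.snd b gZ)) (Iso.refl _) (Iso.refl _)
        (Iso.refl _) (by simp [gW]) (by simp) (by simp) (by simp)
    have hpb : IsPullback gW f ((b ≫ r) ≫ s) (Spec.map (CommRingCat.ofHom (algebraMap R (FractionRing R)))) := by
      rw [Category.assoc]
      simpa using hgW.paste_vert hZ.pb
    haveI : IsProper ((b ≫ r) ≫ s) := by rw [Category.assoc]; infer_instance
    refine ⟨gW, by rw [← Category.assoc, hgW.w, Category.id_comp, hgZ],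
      fun w => Groth.ArSurfBasics.PointRecognition.isRegularLocalRing_blowUp hz hZ.reg hzd b hbl w, hW,
      Minimal.dim_eq_two hpb hC, inferInstance, ?_, hpb⟩
    refine Groth.Curves1.CurveMor.flat_of_dominant ((b ≫ r) ≫ s) ?_ (fun p => ?_) ?_
    · rw [Category.assoc]
      show (r ≫ s) (b (genericPoint W)) = _
      rw [hgen]
      obtain ⟨g, hg, hgb⟩ := Flat.generalizingMap (r ≫ s)
        ((genericPoint_spec (Spec (CommRingCat.of R))).specializes (Set.mem_univ ((r ≫ s) (genericPoint Z))))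
      obtain rfl : g = genericPoint Z := (hg.antisymm (genericPoint_specializes g)).eq
      exact hgb
    · haveI : IsIntegrallyClosed (Localization.AtPrime p.asIdeal) := isIntegrallyClosed_of_isLocalization
        (Localization.AtPrime p.asIdeal) p.asIdeal.primeCompl p.asIdeal.primeCompl_le_nonZeroDivisors
      exact IsIntegrallyClosed.of_equiv (StructureSheaf.stalkIso R p).toRingEquiv
    · refine (PrimeSpectrum.topologicalKrullDim_eq_ringKrullDim (R := R)).trans_le ?_
      exact Order.KrullDimLE.krullDim_le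

variable (hC : Curve.IsSmoothProperCurve (FractionRing R) C f) (hH0 : IsIso f.appTop)
include hC hH0

/-- Two exceptional curves on a regular model are disjoint, or the genus is zero and both have
multiplicity one and constants `k`. -/
theorem disjoint_or (hX : IsSurf f p gX) (Γ Δ : ArSurf.VertComp R (Over.mk p))
    (hΓ : Models.IsExcCurve Γ.ι) (hΔ : Models.IsExcCurve Δ.ι)
    (hne : Set.range Γ.ι.base ≠ Set.range Δ.ι.base) :
    Disjoint (Set.range Γ.ι.base) (Set.range Δ.ι.base) ∨ (Models.curveGenus (FractionRing R) C f = 0 ∧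
      ∃ Δ' : ArSurf.VertComp R (Over.mk p), Set.range Δ'.ι.base = Set.range Δ.ι.base ∧
        Models.mult R (Over.mk p) Δ' = 1 ∧ Models.wdeg R (Over.mk p) Δ' = 1) := by
  refine or_iff_not_imp_left.2 fun hmeet => ?_
  haveI := hX.integral
  haveI : IsIntegral (Over.mk p).left := hX.integral
  haveI : IsProper (Over.mk p).hom := hX.proper
  haveI : Flat (Over.mk p).hom := hX.flat
  haveI := hX.proper
  haveI := hX.flat
  haveI : IsProper f := hC.1
  have hreg : Models.IsRegularScheme (Over.mk p).left := hX.reg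
  obtain ⟨n, Γs, hlist⟩ := Groth.ArSurfBasics.CompList.exists_componentList (X := Over.mk p) hX.dim
    (Groth.ModelsGraphs.Connected.isPreconnected_closedFibre p
      (Groth.ModelsGraphs.GlobalFun.toGlobal_bijective_of_appTop p gX f
        (ConcreteCategory.bijective_of_isIso _) hX.pb))
  have hX0 := hX.isRegularProperModel
  obtain ⟨L, hL⟩ := Groth.ModelsGraphs.InterLattice.exists_inverses f p hX0 Γs hlist
  obtain ⟨T, hTm, hTa, hTw, hTg, hTgen⟩ := Groth.Agent.S3322.result R C X f p hC hH0 hX0 Γs hlist L hL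
  have hidx : ∀ Ξ : ArSurf.VertComp R (Over.mk p), Models.IsExcCurve Ξ.ι →
      ∃ i, Set.range (Γs i).ι.base = Set.range Ξ.ι.base ∧ T.IsMinusOne i := fun Ξ hΞ => by
    have hm := Groth.ModelsGraphs.SmoothMinimal.mem_fibreComponents_of_isEffCartier hreg hΞ.1
    rw [← hlist.2] at hm
    obtain ⟨i, hi⟩ := hm
    refine ⟨i, hi, ?_⟩
    have hexc := Groth.ModelsGraphs.ExcCriterion.isExcCurve_of_range hΞ (Γ' := Γs i) hi.symm
    obtain ⟨h1, h2⟩ := (Groth.ModelsGraphs.ExcCriterion.isExcCurve_iff (Γs i) hexc.1 (hL i)).1 hexc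
    refine ⟨?_, by rw [hTa, h2, hTw]⟩
    have := hTg i
    rw [h1, Nat.cast_zero] at this
    exact (mul_eq_zero.1 this).resolve_left (T.w_pos i).ne'
  obtain ⟨i, hi, hi1⟩ := hidx Γ hΓ
  obtain ⟨j, hj, hj1⟩ := hidx Δ hΔ
  have hij : i ≠ j := fun e => hne (by rw [← hi, ← hj, e])
  have h0 : T.a i j ≠ 0 := fun h0 => hmeet (by
    rw [← hi, ← hj]
    exact (Groth.ModelsGraphs.InterForm.inter_nonneg_and_eq_zero_iff hreg hlist hL hij).2.1
      ((hTa i j).symm.trans h0))
  obtain ⟨hgT, hmT, hwT⟩ := genus_of_pair T hij hi1 hj1 h0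
  have hmw : 0 < T.m i * T.w i := mul_pos (T.m_pos i) (T.w_pos i)
  rw [hTgen] at hgT
  have h1 : T.m i * T.w i = 1 := by omega
  have hm1 := Int.eq_one_of_mul_eq_one_right (T.m_pos i).le h1
  have hw1 : T.w i = 1 := by rw [hm1, one_mul] at h1; exact h1
  rw [hm1] at hmT
  rw [hw1] at hwT
  rw [hTm] at hmT
  rw [hTw] at hwT
  exact ⟨by omega, Γs j, hj, by exact_mod_cast hmT, by exact_mod_cast hwT⟩

/-- Exceptional curves of a model are contracted in every model without exceptional curves. -/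
theorem contracted_or {W Z : Scheme.{u}} {r : W ⟶ Z} (hr : Models.IsContractionSeq r) :
    ∀ (s : Z ⟶ Spec (CommRingCat.of R)) (gZ : C ⟶ Z), IsSurf f s gZ →
      (∀ Γ : ArSurf.VertComp R (Over.mk s), ¬ Models.IsExcCurve Γ.ι) →
      ∀ (E : Scheme.{u}) (ι : E ⟶ W) [IsClosedImmersion ι], Models.IsExcCurve ι →
        (∀ e, s (r (ι e)) = cpt R) →
        (∀ e e', r (ι e) = r (ι e')) ∨ (HasPoint s ∧ Models.curveGenus (FractionRing R) C f = 0) := by
  haveI : IsIntegral C := hC.2.2.1
  induction hr with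
  | @iso W Z e =>
    intro s gZ hZ hmin E ι _ hE hfib
    exfalso
    haveI := hZ.integral
    haveI := hZ.isNoetherian
    haveI : Nonempty W := ⟨e.inv (Classical.arbitrary Z)⟩
    haveI : IsIntegral W := isIntegral_of_isOpenImmersion e.hom
    haveI : IsIntegral (Over.mk s).left := hZ.integral
    haveI : IsProper (Over.mk s).hom := hZ.proper
    haveI : Flat (Over.mk s).hom := hZ.flat
    haveI : IsClosedImmersion (X := E) (Y := (Over.mk s).left) (ι ≫ e.hom) :=
      inferInstanceAs (IsClosedImmersion (ι ≫ e.hom))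
    obtain ⟨Γ, -, hΓ⟩ := exists_vertComp (X := Over.mk s) hZ.dim (ι ≫ e.hom)
      (Groth.ArSurfBasics.ExcContracted.isExcCurve_comp ι hE e.hom (V := ⊤) inferInstance fun _ => trivial)
      (by rintro _ ⟨a, rfl⟩; exact hfib a)
    exact hmin Γ hΓ
  | @step W Z X E₀ ι₀ b r hι₀ hE₀ hb hr ih =>
    intro s gX hX hmin E ι _ hE hfib
    haveI := hι₀
    obtain ⟨gZ, -, hZ⟩ := exists_isSurf hC.2.2.2 hr s gX hX
    obtain ⟨gW, -, hW⟩ := exists_isSurf hC.2.2.2 (Models.IsContractionSeq.step ι₀ b r hι₀ hE₀ hb hr) s gX hX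
    obtain ⟨hN, hbp, z, hz, hz0, hzreg, hzd, hbl⟩ := hb
    haveI := hbp
    haveI := hN
    haveI := hzreg
    haveI := hZ.integral
    haveI := hW.integral
    haveI := hZ.proper
    have hz' : ∀ a, b (ι₀ a) = z := fun a => by
      have : (ι₀ ≫ b) a ∈ ({z} : Set Z) := hz0 ▸ ⟨a, rfl⟩
      exact this
    by_cases heq : Set.range ι.base = Set.range ι₀.base
    · have hc : ∀ c, b (ι c) = z := fun c => by
        obtain ⟨a, ha⟩ : ι c ∈ Set.range ι₀.base := heq ▸ ⟨c, rfl⟩
        rw [← ha]
        exact hz' a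
      refine Or.inl fun e e' => ?_
      rw [Scheme.Hom.comp_apply, Scheme.Hom.comp_apply, hc e, hc e']
    · -- the two curves are disjoint
      haveI : IsIntegral (Over.mk ((b ≫ r) ≫ s)).left := hW.integral
      haveI : IsProper (Over.mk ((b ≫ r) ≫ s)).hom := hW.proper
      haveI : Flat (Over.mk ((b ≫ r) ≫ s)).hom := hW.flat
      haveI : IsClosedImmersion (X := E) (Y := (Over.mk ((b ≫ r) ≫ s)).left) ι := ‹_›
      haveI : IsClosedImmersion (X := E₀) (Y := (Over.mk ((b ≫ r) ≫ s)).left) ι₀ := hι₀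
      have hf0 : ∀ a, ((b ≫ r) ≫ s) (ι₀ a) = cpt R := fun a => by
        rw [Category.assoc, Scheme.Hom.comp_apply, hz' a]
        exact eq_cpt_of_isClosed (r ≫ s) hz
      obtain ⟨Γ, hΓr, hΓ⟩ := exists_vertComp (X := Over.mk ((b ≫ r) ≫ s)) hW.dim ι hE
        (by rintro _ ⟨a, rfl⟩; exact hfib a)
      obtain ⟨Δ, hΔr, hΔ⟩ := exists_vertComp (X := Over.mk ((b ≫ r) ≫ s)) hW.dim ι₀ hE₀
        (by rintro _ ⟨a, rfl⟩; exact hf0 a)
      rcases disjoint_or hC hH0 hW Γ Δ hΓ hΔ (fun h => heq (hΓr ▸ hΔr ▸ h)) with hd' | ⟨hg0, Δ', hΔ', hm1, hw1⟩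
      swap
      · refine Or.inr ⟨HasPoint.map r rfl ?_, hg0⟩
        haveI : IsLocallyNoetherian W := by haveI := hW.isNoetherian; infer_instance
        haveI := hW.flat
        have hWs : (b ≫ r) ≫ s = b ≫ r ≫ s := Category.assoc _ _ _
        have key : ∀ (w : W ⟶ Spec (CommRingCat.of R)) (_ : w = b ≫ r ≫ s)
            (Ξ : ArSurf.VertComp R (Over.mk w)), (∀ c, b (Ξ.ι c) = z) → Flat w →
            Models.mult R (Over.mk w) Ξ = 1 → Models.wdeg R (Over.mk w) Ξ = 1 → HasPoint (r ≫ s) := by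
          rintro w rfl Ξ hΞz hfl hm hw
          haveI := hfl
          exact hasPoint_of_contracted (r ≫ s) b Ξ hz (eq_cpt_of_isClosed (r ≫ s) hz) hΞz hm hw
        refine key _ hWs Δ' (fun c => ?_) hW.flat hm1 hw1
        obtain ⟨a, ha⟩ : Δ'.ι c ∈ Set.range ι₀.base := hΔr ▸ hΔ' ▸ ⟨c, rfl⟩
        rw [← ha]
        exact hz' a
      have hd : Disjoint (Set.range ι.base) (Set.range ι₀.base) := by
        rw [← hΓr, ← hΔr]
        exact hd'
      obtain ⟨hE₀i, a₁, a₂, ha⟩ := Groth.ArSurfBasics.ExcContracted.isIntegral_of_isExcCurve hE₀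
      haveI := hE₀i
      have hnt : ∃ a, a ≠ genericPoint E₀ := by
        by_cases h : a₁ = genericPoint E₀
        · exact ⟨a₂, fun e => ha (h.trans e.symm)⟩
        · exact ⟨a₁, h⟩
      obtain ⟨η, hη, hgen', huniq⟩ := Groth.ResolveSurf.PointContraction.exists_generic_fibre hbl hzreg hzd
      have hoff : ∀ c, b (ι c) ≠ z := fun c hc => Set.disjoint_left.1 hd ⟨c, rfl⟩
        (Groth.ResolveSurf.PointContraction.range_eq_fibre ι₀ hz' hnt hgen' huniq _ hc)
      obtain ⟨-, -, -, hbiso⟩ := Groth.ArSurfBasics.ArithBlowUp.blowUp_basic hz hzd b hbl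
      let V : Z.Opens := ⟨{z}ᶜ, hz.isOpen_compl⟩
      have hlift : IsPreimmersion (ι ≫ b) := by
        haveI := hbiso
        let ι' : E ⟶ ↑(b ⁻¹ᵁ V) := IsOpenImmersion.lift (b ⁻¹ᵁ V).ι ι (by
          rintro _ ⟨c, rfl⟩
          rw [Scheme.Opens.range_ι]
          exact hoff c)
        have h1 : ι' ≫ (b ⁻¹ᵁ V).ι = ι := IsOpenImmersion.lift_fac _ _ _
        haveI : IsPreimmersion ι' := by
          haveI : IsPreimmersion (ι' ≫ (b ⁻¹ᵁ V).ι) := by rw [h1]; infer_instance
          exact IsPreimmersion.of_comp ι' (b ⁻¹ᵁ V).ι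
        have h2 : ι' ≫ (b ∣_ V) ≫ V.ι = ι ≫ b := by rw [morphismRestrict_ι, ← Category.assoc, h1]
        rw [← h2]
        infer_instance
      haveI : IsClosedImmersion (ι ≫ b) :=
        IsClosedImmersion.of_isPreimmersion _ (ι ≫ b).isClosedMap.isClosed_range
      exact ih s gX hX hmin E (ι ≫ b) (Groth.ArSurfBasics.ExcContracted.isExcCurve_comp ι hE b hbiso hoff)
        (fun a => hfib a)

/-- A morphism to a minimal model descends along contraction sequences. -/
theorem exists_desc_or {W Z : Scheme.{u}} {v : W ⟶ Z} (hv : Models.IsContractionSeq v) :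
    ∀ (s : Z ⟶ Spec (CommRingCat.of R)) (gZ : C ⟶ Z), IsSurf f s gZ → IsSurf f p gX →
      (∀ Γ : ArSurf.VertComp R (Over.mk p), ¬ Models.IsExcCurve Γ.ι) →
      ∀ (gW : C ⟶ W), gW ≫ v = gZ → IsSurf f (v ≫ s) gW →
      ∀ u : W ⟶ X, u ≫ p = v ≫ s → gW ≫ u = gX →
        (∃ k : Z ⟶ X, k ≫ p = s ∧ gZ ≫ k = gX) ∨
          (HasPoint p ∧ Models.curveGenus (FractionRing R) C f = 0) := by
  haveI : IsIntegral C := hC.2.2.1
  induction hv with
  | @iso W Z e =>
    intro s gZ _ _ _ gW hgW _ u hu hgu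
    exact Or.inl ⟨e.inv ≫ u, by rw [Category.assoc, hu, e.inv_hom_id_assoc],
      by rw [← hgW, Category.assoc, e.hom_inv_id_assoc, hgu]⟩
  | @step W Z Y E ι b r hι hE hb hr ih =>
    intro s gY hY hX hmin gW hgW hW u hu hgu
    haveI := hι
    haveI := hX.proper
    obtain ⟨gZ, hgZ, hZ⟩ := exists_isSurf hC.2.2.2 hr s gY hY
    have hbc : gW ≫ b = gZ := by
      have hpb := isPullback_generic hY hZ r rfl hgZ
      have h1 := hpb.lift_fst (gW ≫ b) (𝟙 C) (by rw [Category.assoc, hgW, Category.id_comp])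
      have h2 := hpb.lift_snd (gW ≫ b) (𝟙 C) (by rw [Category.assoc, hgW, Category.id_comp])
      rw [Category.comp_id] at h2
      rw [h2, Category.id_comp] at h1
      exact h1.symm
    have huseq := isContractionSeq_of_hom hX hW u hu hgu
    obtain ⟨hN, hbp, z, hz, hz0, -⟩ := id hb
    haveI := hZ.proper
    have hfib : ∀ e, p (u (ι e)) = cpt R := fun e => by
      have h1 : (ι ≫ b) e ∈ ({z} : Set Z) := hz0 ▸ ⟨e, rfl⟩
      rw [← Scheme.Hom.comp_apply u, hu, Category.assoc, Scheme.Hom.comp_apply b,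
        show b (ι e) = z from h1]
      exact eq_cpt_of_isClosed (r ≫ s) hz
    rcases contracted_or hC hH0 huseq p gX hX hmin E ι hE hfib with hcon | hpt
    swap
    · exact Or.inr hpt
    obtain ⟨ψ, hψ, -⟩ := Groth.ResolveSurf.ContractionDesc.existsUnique_desc ι hE b hb u hcon
    obtain ⟨φ, -, hφ⟩ := Groth.ResolveSurf.ContractionDesc.existsUnique_desc ι hE b hb (u ≫ p)
      fun e e' => congrArg p (hcon e e')
    have hψp : ψ ≫ p = r ≫ s := by
      refine (hφ _ ?_).trans (hφ _ ?_).symm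
      · show b ≫ ψ ≫ p = u ≫ p
        rw [← Category.assoc, hψ]
      · show b ≫ r ≫ s = u ≫ p
        rw [hu, Category.assoc]
    exact ih s gY hY hX hmin gZ hgZ hZ ψ hψp (by rw [← hbc, Category.assoc, hψ, hgu])

/-- The universal property of a minimal model of a curve of positive genus. -/
theorem exists_hom_or (hX : IsSurf f p gX) (hY : IsSurf f q gY)
    (hmin : ∀ Γ : ArSurf.VertComp R (Over.mk p), ¬ Models.IsExcCurve Γ.ι) :
    (∃ b : Y ⟶ X, b ≫ p = q ∧ gY ≫ b = gX) ∨
      (HasPoint p ∧ Models.curveGenus (FractionRing R) C f = 0) := by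
  haveI : IsIntegral C := hC.2.2.1
  haveI := hX.integral
  haveI := hY.integral
  haveI := hX.proper
  haveI := hY.proper
  haveI := hY.isNoetherian
  haveI := hX.isNoetherian
  haveI := Minimal.isOpenImmersion_left hY.pb
  haveI : EssFT.EssFiniteType q :=
    { exists_appLE_essFiniteType := fun x => by
        obtain ⟨_, ⟨W, hW, rfl⟩, hxW, -⟩ :=
          (Spec (CommRingCat.of R)).isBasis_affineOpens.exists_subset_of_mem_open (Set.mem_univ (q x)) isOpen_univ
        obtain ⟨_, ⟨V, hV, rfl⟩, hxV, hVW⟩ :=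
          Y.isBasis_affineOpens.exists_subset_of_mem_open (show x ∈ q ⁻¹ᵁ W from hxW) (q ⁻¹ᵁ W).2
        exact ⟨⟨W, hW⟩, ⟨V, hV⟩, hxV, hVW, (q.finiteType_appLE hW hV hVW).essFiniteType⟩ }
  haveI : IsLocallyNoetherian C := isLocallyNoetherian_of_isOpenImmersion gY
  haveI : IsProper f := hC.1
  haveI : CompactSpace C := QuasiCompact.compactSpace_of_compactSpace f
  haveI : AlgebraicGeometry.IsNoetherian C := {}
  have hj : LocImm.IsLocImmersion gY :=
    ⟨Groth.LocImmersion.isLocalizing_of_isOpenImmersion gY, gY.isOpenEmbedding.injective⟩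
  have hd : Dense (Set.range (fun x => gY x)) := by
    show Dense (gY.opensRange : Set Y)
    exact gY.opensRange.2.dense ⟨gY (genericPoint C), ⟨_, rfl⟩⟩
  obtain ⟨𝓘, Yt, c, e, f', hb, hdis, he, hef, hS⟩ :=
    Groth.Agent.S18215.result q p gY hj hd gX (hY.pb.w.trans hX.pb.w.symm)
  have hI : 𝓘 ≠ ⊥ := fun h => by
    refine Set.disjoint_left.1 hdis (?_ : gY (genericPoint C) ∈ 𝓘.support) ⟨_, rfl⟩
    rw [h, Scheme.IdealSheafData.support_bot]
    trivial
  obtain ⟨W, v, hv, hCart⟩ := Groth.Agent.S7322.result Y hY.reg hY.dim 𝓘 hI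
  obtain ⟨k, hk, -⟩ := hb.2 W v hCart
  obtain ⟨gW, hgW, hW⟩ := exists_isSurf hC.2.2.2 hv q gY hY
  have hC' : BlowUp.IsEffCartierIdeal (𝓘.comap gY) := by
    have htop : 𝓘.comap gY = ⊤ := by
      rw [← Scheme.IdealSheafData.support_eq_bot_iff, Scheme.IdealSheafData.support_comap]
      exact TopologicalSpace.Closeds.ext
        (Set.eq_empty_of_forall_notMem fun z hz => Set.disjoint_left.1 hdis hz ⟨z, rfl⟩)
    rw [htop]
    exact Groth.Divisors.isEffCartierIdeal_top
  obtain ⟨m, -, huniq⟩ := hb.2 _ _ hC'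
  have h1 : gW ≫ k = e := by
    refine (huniq _ ?_).trans (huniq _ he).symm
    show (gW ≫ k) ≫ c = gY
    rw [Category.assoc, hk, hgW]
  exact exists_desc_or hC hH0 hv q gY hY hX hmin gW hgW hW (k ≫ f')
    (by rw [Category.assoc, ← hS, ← Category.assoc, hk]) (by rw [← Category.assoc, h1, hef])

omit hH0 in
/-- Morphisms of models are determined on the generic fibre. -/
theorem hom_ext (hX : IsSurf f p gX) (hY : IsSurf f q gY) {a b : Y ⟶ X} (ha : a ≫ p = q)
    (hb : b ≫ p = q) (h : gY ≫ a = gY ≫ b) : a = b := by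
  haveI : IsIntegral C := hC.2.2.1
  haveI := hY.integral
  haveI := hX.proper
  haveI := Minimal.isOpenImmersion_left hY.pb
  haveI : IsDominant gY := ⟨by
    rw [DenseRange, ← Scheme.Hom.coe_opensRange]
    exact gY.opensRange.isOpen.dense ⟨gY (genericPoint C), ⟨_, rfl⟩⟩⟩
  haveI : X.IsSeparated := ⟨by rw [← terminal.comp_from p]; infer_instance⟩
  exact ext_of_isDominant gY h

/-- The universal property of a minimal model of a curve of positive genus. -/
theorem exists_hom (hgen : 0 < Models.curveGenus (FractionRing R) C f) (hX : IsSurf f p gX) (hY : IsSurf f q gY)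
    (hmin : ∀ Γ : ArSurf.VertComp R (Over.mk p), ¬ Models.IsExcCurve Γ.ι) :
    ∃ b : Y ⟶ X, b ≫ p = q ∧ gY ≫ b = gX :=
  (exists_hom_or hC hH0 hX hY hmin).resolve_right fun h => hgen.ne' h.2

end Groth.CurveExtend.Unique
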